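import Groth.Agent.Lib.ProjDual12.Ext
import Mathlib.Algebra.Homology.DerivedCategory.Ext.Map

/-!
# The duality pairing `Ext^j(G, O(-n-1)) × H^{n-j}(G) → k` on projective space
-/

set_option autoImplicit false
set_option linter.style.haveILetI false
set_option linter.unusedSectionVars false
set_option backward.isDefEq.respectTransparency false
set_option backward.isDefEq.respectTransparency.types false

universe u

open CategoryTheory CategoryTheory.Limits AlgebraicGeometry TopologicalSpace Opposite Abelian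

noncomputable section

namespace Groth.Agent.ProjDual12

open Groth.Agent Groth.Agent.CurveCoh17 Groth.Agent.CohFound

section general

variable {X : Scheme.{u}} [HasExt.{u} X.Modules]

/-- Cup product of a cohomology class with an extension class. -/
def cup {G W : X.Modules} {q j m : ℕ} (h : q + j = m) (x : Ext G W j) :
    Coh.HH X G q →+ Coh.HH X W m :=
  ((hhExt W m).symm.toAddMonoidHom.comp ((x.mapExactFunctor (abF X)).postcomp (freeU ⊤) h)).comp
    (hhExt G q).toAddMonoidHom

theorem hhExt_cup {G W : X.Modules} {q j m : ℕ} (h : q + j = m) (x : Ext G W j) (y : Coh.HH X G q) :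
    hhExt W m (cup h x y) = (hhExt G q y).comp (x.mapExactFunctor (abF X)) h :=
  (hhExt W m).apply_symm_apply _

theorem cup_add {G W : X.Modules} {q j m : ℕ} (h : q + j = m) (x x' : Ext G W j) (y : Coh.HH X G q) :
    cup h (x + x') y = cup h x y + cup h x' y := by
  apply (hhExt W m).injective
  rw [map_add, hhExt_cup, hhExt_cup, hhExt_cup, Ext.mapExactFunctor_add, Ext.comp_add]

theorem cup_mk₀ {G W : X.Modules} {m : ℕ} (φ : G ⟶ W) (y : Coh.HH X G m) :
    cup (add_zero m) (Ext.mk₀ φ) y = hmap₀ φ m y := by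
  apply (hhExt W m).injective
  rw [hhExt_cup, hhExt_hmap₀, Ext.mapExactFunctor_mk₀, mp_apply]

theorem cup_mk₀_comp {G G' W : X.Modules} {q j m : ℕ} (h : q + j = m) (g : G ⟶ G') (x : Ext G' W j)
    (y : Coh.HH X G q) :
    cup h ((Ext.mk₀ g).comp x (zero_add j)) y = cup h x (hmap₀ g q y) := by
  apply (hhExt W m).injective
  rw [hhExt_cup, hhExt_cup, hhExt_hmap₀, Ext.mapExactFunctor_comp, Ext.mapExactFunctor_mk₀, mp_apply,
    Ext.comp_assoc _ _ _ (add_zero q) (zero_add j) (by omega)]

theorem cup_comp_mk₀ {G W W' : X.Modules} {q j m : ℕ} (h : q + j = m) (x : Ext G W j) (g : W ⟶ W')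
    (y : Coh.HH X G q) :
    cup h (x.comp (Ext.mk₀ g) (add_zero j)) y = hmap₀ g m (cup h x y) := by
  apply (hhExt W' m).injective
  rw [hhExt_cup, hhExt_hmap₀, hhExt_cup, Ext.mapExactFunctor_comp, Ext.mapExactFunctor_mk₀, mp_apply,
    Ext.comp_assoc _ _ _ h (add_zero j) (by omega)]

theorem cup_extClass {S : ShortComplex X.Modules} (hS : S.ShortExact) {W : X.Modules} {q j m : ℕ}
    (h : q + (j + 1) = m) (a : Ext S.X₁ W j) (y : Coh.HH X S.X₃ q) :
    cup h (hS.extClass.comp a (add_comm 1 j)) y = cup (show q + 1 + j = m by omega) a (hdelta₀ hS q y) := by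
  apply (hhExt W m).injective
  rw [hhExt_cup, hhExt_cup, hhExt_hdelta₀, Ext.mapExactFunctor_comp, Ext.mapExactFunctor_extClass, delta_apply]
  exact (Ext.comp_assoc (hhExt S.X₃ q y) (shortExact_abF hS).extClass (a.mapExactFunctor (abF X)) rfl
    (add_comm 1 j) (by omega)).symm

end general

section dual

variable {k : Type u} [Field k] {X : Scheme.{u}} [X.Over (Spec (CommRingCat.of k))] [HasExt.{u} X.Modules]
  {n : ℕ} {W : X.Modules} (tr : Coh.HH X W n →ₗ[k] k)

/-- The pairing against a functional. -/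
def pairT {G : X.Modules} {q j : ℕ} (h : q + j = n) (x : Ext G W j) : Coh.HH X G q →ₗ[k] k where
  toFun y := tr (cup h x y)
  map_add' y y' := by rw [map_add, map_add]
  map_smul' c y := by
    have hc : Formal.smulMod k G c = c • 𝟙 G := by rw [KLin.smul_def, Category.comp_id]
    have hw : c • 𝟙 W = Formal.smulMod k W c := by rw [KLin.smul_def, Category.comp_id]
    have h1 : c • y = hmap₀ (Formal.smulMod k G c) q y := (hmap₀_smulModΓ G _ q y).symm
    have h2 : (Ext.mk₀ (Formal.smulMod k G c)).comp x (zero_add j) =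
        x.comp (Ext.mk₀ (Formal.smulMod k W c)) (add_zero j) := by
      rw [hc, ← hw, Ext.mk₀_smul, Ext.mk₀_smul, Ext.smul_comp, Ext.comp_smul, Ext.mk₀_id_comp, Ext.comp_mk₀_id]
    show tr (cup h x (c • y)) = c • tr (cup h x y)
    rw [h1, ← cup_mk₀_comp, h2, cup_comp_mk₀, ← map_smul tr]
    exact congrArg tr (hmap₀_smulModΓ W _ n _)

theorem pairT_add {G : X.Modules} {q j : ℕ} (h : q + j = n) (x x' : Ext G W j) :
    pairT tr h (x + x') = pairT tr h x + pairT tr h x' :=
  LinearMap.ext fun y => by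
    show tr (cup h (x + x') y) = tr (cup h x y) + tr (cup h x' y)
    rw [cup_add, map_add]

theorem pairT_zero {G : X.Modules} {q j : ℕ} (h : q + j = n) : pairT tr h (0 : Ext G W j) = 0 := by
  have h2 := pairT_add tr h (0 : Ext G W j) 0
  rw [add_zero] at h2
  exact left_eq_add.1 h2

theorem pairT_mk₀_comp {G G' : X.Modules} {q j : ℕ} (h : q + j = n) (g : G ⟶ G') (x : Ext G' W j) :
    pairT tr h ((Ext.mk₀ g).comp x (zero_add j)) = (pairT tr h x).comp (hmap k g q) :=
  LinearMap.ext fun y => congrArg tr (cup_mk₀_comp h g x y)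

theorem pairT_mk₀ {G : X.Modules} (φ : G ⟶ W) :
    pairT tr (add_zero n) (Ext.mk₀ φ) = tr.comp (hmap k φ n) :=
  LinearMap.ext fun y => congrArg tr (cup_mk₀ φ y)

theorem pairT_extClass {S : ShortComplex X.Modules} (hS : S.ShortExact) {q j : ℕ}
    (h : q + (j + 1) = n) (a : Ext S.X₁ W j) :
    pairT tr h (hS.extClass.comp a (add_comm 1 j)) =
      (pairT tr (show q + 1 + j = n by omega) a).comp (hdelta k hS q) :=
  LinearMap.ext fun y => congrArg tr (cup_extClass hS h a y)

/-- The pairing is perfect if it is so in top degree and there are enough acyclic modules. -/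
theorem pairT_bijective
    (hrep : ∀ {G : X.Modules}, Coh.IsCoh G → Function.Bijective fun φ : G ⟶ W => tr.comp (hmap k φ n))
    (hres : ∀ {G : X.Modules}, Coh.IsCoh G → ∃ (K E : X.Modules) (f : K ⟶ E) (g : E ⟶ G) (w : f ≫ g = 0),
      (ShortComplex.mk f g w).ShortExact ∧ Coh.IsCoh K ∧ Coh.IsCoh E ∧
        (∀ p, 0 < p → Subsingleton (Ext E W p)) ∧ ∀ p, p < n → Subsingleton (Coh.HH X E p)) :
    ∀ (j : ℕ) {G : X.Modules}, Coh.IsCoh G → ∀ {q : ℕ} (h : q + j = n),
      Function.Bijective (pairT tr (G := G) (q := q) (j := j) h) := by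
  intro j
  induction j with
  | zero =>
    intro G hG q h
    obtain rfl : q = n := by omega
    refine ⟨fun x x' hx => ?_, fun ψ => ?_⟩
    · obtain ⟨φ, rfl⟩ := (Ext.mk₀_bijective _ _).2 x
      obtain ⟨φ', rfl⟩ := (Ext.mk₀_bijective _ _).2 x'
      rw [pairT_mk₀, pairT_mk₀] at hx
      rw [(hrep hG).1 hx]
    · obtain ⟨φ, hφ⟩ := (hrep hG).2 ψ
      exact ⟨Ext.mk₀ φ, (pairT_mk₀ tr φ).trans hφ⟩
  | succ j ih =>
    intro G hG q h
    obtain ⟨K, E, f, g, w, hS, hcK, hcE, hE, hEi⟩ := hres hG
    have hsurj : ∀ x : Ext G W (j + 1), ∃ a : Ext K W j,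
        hS.extClass.comp a (add_comm 1 j) = x := fun x => by
      obtain ⟨a, ha⟩ := Ext.contravariant_sequence_exact₃ hS W (n₁ := j + 1) x
        ((hE (j + 1) (Nat.succ_pos j)).elim _ _) (add_comm 1 j)
      exact ⟨a, ha⟩
    have hdinj : Function.Injective (hdelta k hS q) := (injective_iff_map_eq_zero _).2 fun y hy => by
      obtain ⟨z, rfl⟩ := (exact_hmap_hdelta k hS q y).1 hy
      rw [(hEi q (by omega)).elim z 0, map_zero]
    have hK := @ih K hcK (q + 1) (by omega)
    have hzero : ∀ {x : Ext G W (j + 1)}, pairT tr h x = 0 → x = 0 := by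
      intro x hx
      obtain ⟨a, rfl⟩ := hsurj x
      rw [pairT_extClass] at hx
      rcases Nat.eq_zero_or_pos j with rfl | hj
      · obtain rfl : n = q + 1 := by omega
        obtain ⟨φ, rfl⟩ := (Ext.mk₀_bijective _ _).2 a
        rw [pairT_mk₀] at hx
        obtain ⟨η, hη⟩ := exists_dual_comp_of_exact _ _ (exact_hdelta_hmap k hS q)
          (tr.comp (hmap k φ (q + 1))) hx
        obtain ⟨ψ, hψ⟩ := (hrep hcE).2 η
        have hf : f ≫ ψ = φ := (hrep hcK).1 (LinearMap.ext fun z => by
          show tr (hmap k (f ≫ ψ) (q + 1) z) = tr (hmap k φ (q + 1) z)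
          rw [hmap_comp k]
          exact (LinearMap.congr_fun hψ _).trans (LinearMap.congr_fun hη z))
        rw [← hf, ← Ext.mk₀_comp_mk₀]
        exact hS.extClass_comp_assoc _
      · have hd : Function.Surjective (hdelta k hS q) := fun y =>
          (exact_hdelta_hmap k hS q y).1 ((hEi (q + 1) (by omega)).elim _ _)
        have h0 : pairT tr (show q + 1 + j = n by omega) a = 0 := LinearMap.ext fun y => by
          obtain ⟨z, rfl⟩ := hd y
          exact LinearMap.congr_fun hx z
        obtain rfl : a = 0 := hK.1 (h0.trans (pairT_zero tr _).symm)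
        exact Ext.comp_zero _ _ _ _ _
    refine ⟨fun x x' hx => sub_eq_zero.1 (hzero ?_), fun ψ => ?_⟩
    · have := pairT_add tr h (x - x') x'
      rw [sub_add_cancel, hx] at this
      exact right_eq_add.1 this
    · obtain ⟨ψ', hψ'⟩ := LinearMap.dualMap_surjective_of_injective hdinj ψ
      obtain ⟨a, ha⟩ := hK.2 ψ'
      refine ⟨hS.extClass.comp a (add_comm 1 j), ?_⟩
      rw [pairT_extClass, ha]
      exact hψ'

end dual

variable {k : Type u} [Field k] {n : ℕ}

local notation "P" => CohB1.ProjSpace n k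

variable [HasExt.{u} (CohB1.ProjSpace n k).Modules]

/-- The pairing against the trace. -/
abbrev pair {G : (CohB1.ProjSpace n k).Modules} {q j : ℕ} (h : q + j = n) (x : Ext G (om k n) j) :
    Coh.HH P G q →ₗ[k] k :=
  pairT (trace k n).toLinearMap h x

theorem exists_acyclic_presentation {G : (CohB1.ProjSpace n k).Modules} (hG : Coh.IsCoh G) :
    ∃ (K E : (CohB1.ProjSpace n k).Modules) (f : K ⟶ E) (g : E ⟶ G) (w : f ≫ g = 0),
      (ShortComplex.mk f g w).ShortExact ∧ Coh.IsCoh K ∧ Coh.IsCoh E ∧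
        (∀ p, 0 < p → Subsingleton (Ext E (om k n) p)) ∧ ∀ p, p < n → Subsingleton (Coh.HH P E p) := by
  haveI : IsLocallyNoetherian P := CohFound.ProjNum.isLocallyNoetherian_projSpace n k
  obtain ⟨b, m, π, -, hπ⟩ := exists_epi_sum hG 0
  haveI := hπ
  exact ⟨_, _, kernel.ι π, π, kernel.condition π, { exact := ShortComplex.exact_kernel π },
    CurveCoh17.isCoh_kernel (isCoh_sum (k := k) (n := n) (m := m) b) hG.1 π,
    isCoh_sum (k := k) (n := n) (m := m) b,
    fun p hp => subsingleton_ext_coprod b (subsingleton_ext_tneg (k := k) (n := n) m hp),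
    fun p hp => subsingleton_HH_coprod k b (subsingleton_h_tneg m (Nat.ne_of_lt hp))⟩

/-- Serre duality for coherent modules on projective space, as a perfect pairing. -/
theorem pair_bijective (j : ℕ) {G : (CohB1.ProjSpace n k).Modules} (hG : Coh.IsCoh G) {q : ℕ} (h : q + j = n) :
    Function.Bijective (pair (G := G) (q := q) (j := j) h) :=
  pairT_bijective (trace k n).toLinearMap (fun hG' => rep hG') (fun hG' => exists_acyclic_presentation hG') j hG h

end Groth.Agent.ProjDual12
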