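import Groth.Agent.Lib.ProjDual12.Codim
import Groth.Agent.Lib.ProjDual12.Pairing
import Groth.Agent.Lib.DerAdj12.ExtUniv
import Groth.Agent.Lib.ClImmProj14.Derived
import Groth.Agent.Lib.PushNatH7.Basic
import Groth.Agent.Lib.FormalH7.ModPow
import Groth.Agent.Lib.CohMop.ClosedCounit

/-!
# The dualizing sheaf of a closed subscheme of projective space
-/

set_option autoImplicit false
set_option linter.style.haveILetI false
set_option linter.unusedSectionVars false
set_option backward.isDefEq.respectTransparency false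
set_option backward.isDefEq.respectTransparency.types false

universe u

open CategoryTheory CategoryTheory.Limits AlgebraicGeometry TopologicalSpace Opposite Abelian

noncomputable section

namespace Groth.Agent.ProjDual12

open Groth.Agent Groth.Agent.CurveCoh17

section transfer

variable {k : Type u} [Field k] {X Y : Scheme.{u}} [X.Over (Spec (CommRingCat.of k))] [Y.Over (Spec (CommRingCat.of k))]
  [HasExt.{u} Y.Modules]

/-- A perfect pairing on `Y` and a universal class give a representing functional on `X`. -/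
theorem exists_trace_of_universal (f : X ⟶ Y) [IsAffineHom f]
    (hf : f ≫ (Y ↘ Spec (CommRingCat.of k)) = X ↘ Spec (CommRingCat.of k)) {N m c : ℕ} (h : m + c = N)
    {W : Y.Modules} (tr : Coh.HH Y W N →ₗ[k] k) {ω : X.Modules} (hω : Coh.IsQCoh ω)
    (hpair : ∀ F : X.Modules, Coh.IsCoh F →
      Function.Bijective (pairT tr (G := (Scheme.Modules.pushforward f).obj F) (q := m) (j := c) h))
    (ξ : Ext ((Scheme.Modules.pushforward f).obj ω) W c)
    (hξ : ∀ F : X.Modules, Function.Bijective fun φ : F ⟶ ω =>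
      (Ext.mk₀ ((Scheme.Modules.pushforward f).map φ)).comp ξ (zero_add c)) :
    ∃ t : Coh.HH X ω m →ₗ[k] k, ∀ F : X.Modules, Coh.IsCoh F → ∀ ψ : Coh.HH X F m →ₗ[k] k,
      ∃! φ : F ⟶ ω, ∀ x : Coh.HH X F m,
        ψ x = t (Sheaf.H.map ((SheafOfModules.toSheaf X.ringCatSheaf).map φ) m x) := by
  obtain ⟨T, hT⟩ := PushNatH7.exists_HH_push_natural f m
  have hlin : ∀ (M : X.Modules) (hM : Coh.IsQCoh M) (a : k) (z : Coh.HH Y ((Scheme.Modules.pushforward f).obj M) m),
      T M hM (a • z) = a • T M hM z := by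
    intro M hM a z
    have h1 : a • z = hmap₀ ((Scheme.Modules.pushforward f).map (Formal.smulMod k M a)) m z := by
      rw [FormalH7.pushforward_map_smulMod f hf]
      exact (hmap₀_smulModΓ _ _ m z).symm
    rw [h1]
    exact (hT M M hM hM (Formal.smulMod k M a) z).trans (hmap₀_smulModΓ _ _ m _)
  let Te : ∀ (M : X.Modules), Coh.IsQCoh M →
      (Coh.HH Y ((Scheme.Modules.pushforward f).obj M) m ≃ₗ[k] Coh.HH X M m) :=
    fun M hM => { T M hM with map_smul' := hlin M hM }
  refine ⟨(pairT tr h ξ).comp (Te ω hω).symm.toLinearMap, fun F hF ψ => ?_⟩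
  have key : ∀ (φ : F ⟶ ω) (x : Coh.HH X F m),
      pairT tr h ξ ((Te ω hω).symm (Sheaf.H.map ((SheafOfModules.toSheaf X.ringCatSheaf).map φ) m x)) =
        pairT tr h ((Ext.mk₀ ((Scheme.Modules.pushforward f).map φ)).comp ξ (zero_add c))
          ((Te F hF.1).symm x) := by
    intro φ x
    rw [pairT_mk₀_comp, LinearMap.comp_apply]
    refine congrArg (pairT tr h ξ) ((Te ω hω).injective ?_)
    rw [LinearEquiv.apply_symm_apply]
    refine Eq.trans ?_ (hT F ω hF.1 hω φ ((Te F hF.1).symm x)).symm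
    exact congrArg _ ((Te F hF.1).apply_symm_apply x).symm
  obtain ⟨e, he⟩ := (hpair F hF).2 (ψ.comp (Te F hF.1).toLinearMap)
  obtain ⟨φ, hφ⟩ := (hξ F).2 e
  refine ⟨φ, fun x => ?_, fun φ' hφ' => ?_⟩
  · show ψ x = pairT tr h ξ ((Te ω hω).symm _)
    rw [key]
    dsimp only at hφ
    rw [hφ, he, LinearMap.comp_apply]
    exact congrArg ψ ((Te F hF.1).apply_symm_apply x).symm
  · refine (hξ F).1 (Eq.trans ((hpair F hF).1 (LinearMap.ext fun z => ?_)) hφ.symm)
    rw [he, LinearMap.comp_apply]
    show pairT tr h ((Ext.mk₀ ((Scheme.Modules.pushforward f).map φ')).comp ξ (zero_add c)) z = ψ (Te F hF.1 z)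
    rw [hφ' (Te F hF.1 z)]
    show _ = pairT tr h ξ ((Te ω hω).symm _)
    rw [key, LinearEquiv.symm_apply_apply]

end transfer

variable {k : Type u} [Field k] {N : ℕ} {X : Scheme.{u}} [X.Over (Spec (CommRingCat.of k))]
  (ι : X ⟶ CohB1.ProjSpace N k) [IsClosedImmersion ι]

theorem exists_dualizing_trace (hι : ι ≫ CohB1.ProjSpace.toSpec N k = X ↘ Spec (CommRingCat.of k))
    {n : ℕ} (hn : n ≤ N) (hdim : topologicalKrullDim ↥X ≤ (n : WithBot ℕ∞))
    [ModSite.HasSheafHom (O := (CohB1.ProjSpace N k).sheaf) ((Scheme.Modules.pushforward ι).obj (Coh.structureModule X))]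
    [HasInjectiveResolutions (ModSite.Mod (CohB1.ProjSpace N k).sheaf)] (ω : X.Modules)
    (hω : Nonempty ((Scheme.Modules.pushforward ι).obj ω ≅
      (ModSite.extSh (O := (CohB1.ProjSpace N k).sheaf) ((Scheme.Modules.pushforward ι).obj (Coh.structureModule X)) (N - n)).obj
        (_root_.Twist.twistProjSpace N k (-((N : ℤ) + 1))))) :
    ∃ t : Coh.HH X ω n →ₗ[k] k, ∀ F : X.Modules, Coh.IsCoh F → ∀ ψ : Coh.HH X F n →ₗ[k] k,
      ∃! φ : F ⟶ ω, ∀ x : Coh.HH X F n,
        ψ x = t (Sheaf.H.map ((SheafOfModules.toSheaf X.ringCatSheaf).map φ) n x) := by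
  haveI : IsLocallyNoetherian (CohB1.ProjSpace N k) := CohFound.ProjNum.isLocallyNoetherian_projSpace N k
  haveI : IsLocallyNoetherian X := LocallyOfFiniteType.isLocallyNoetherian ι
  haveI := fun Q : (CohB1.ProjSpace N k).Modules => CohMop.additive_ihom Q
  haveI : HasExt.{u} (CohB1.ProjSpace N k).Modules := hasExt_of_enoughInjectives.{u} _
  let O := Coh.structureModule X
  haveI := ClImmProj14.upper_additive ι O
  haveI := ClImmProj14.preservesHomology_push ι
  haveI : (Scheme.Modules.pushforward ι).PreservesMonomorphisms :=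
    Functor.preservesMonomorphisms_of_adjunction (Scheme.Modules.pullbackPushforwardAdjunction ι)
  haveI : (Scheme.Modules.pushforward ι).Additive :=
    haveI : PreservesLimitsOfSize.{0, 0} (Scheme.Modules.pushforward ι) :=
      (Scheme.Modules.pullbackPushforwardAdjunction ι).rightAdjoint_preservesLimits
    Functor.additive_of_preserves_binary_products _
  let adj : Scheme.Modules.pushforward ι ⊣ ClImmProj14.upper ι O :=
    (ClImmProj14.upperAdj ι O).ofNatIsoLeft
      (Functor.isoWhiskerRight RHom.unitorNatIso _ ≪≫ Functor.leftUnitor _)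
  have hdim' : topologicalKrullDim ↥X + ((N - n : ℕ) : WithBot ℕ∞) ≤ (N : WithBot ℕ∞) := by
    refine (add_le_add hdim le_rfl).trans ?_
    rw [← Nat.cast_add, Nat.add_sub_cancel' hn]
  have hvan : ∀ q, q < N - n → IsZero (((ClImmProj14.upper ι O).rightDerived q).obj (om k N)) := by
    intro q hq
    obtain ⟨e⟩ := ClImmProj14.nonempty_extSh_iso ι O q (om k N)
    have hz : IsZero ((Scheme.Modules.pushforward ι).obj (((ClImmProj14.upper ι O).rightDerived q).obj (om k N))) :=
      (isZero_exd_of_lt_codim ι (N - n) hdim' hq).of_iso e.symm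
    rw [IsZero.iff_id_eq_zero]
    exact (ClImmProj14.pushFF ι).map_injective (hz.eq_of_src _ _)
  obtain ⟨eω⟩ := ClImmProj14.nonempty_iso_of_push ι O (N - n) (om k N) ω hω
  obtain ⟨ξ, hξ⟩ := DerAdj12.exists_universal adj (om k N) (N - n) hvan eω
  obtain ⟨e'⟩ := hω
  have hωc : Coh.IsQCoh ω := by
    have h1 := isCoh_exd (k := k) (isCoh_push ι (M1.isCoh_structureModule X)) (N - n)
    haveI := CohMop.isIso_counit_closedImmersion ι ω
    have h2 : Coh.IsQCoh ((Scheme.Modules.pushforward ι).obj ω) := M1.isQCoh_of_isIso e'.symm h1.1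
    exact M1.isQCoh_of_isIso (asIso ((Scheme.Modules.pullbackPushforwardAdjunction ι).counit.app ω))
      (M1.isQCoh_pullback ι h2)
  exact exists_trace_of_universal ι hι (show n + (N - n) = N by omega) (trace k N).toLinearMap hωc
    (fun F hF => pair_bijective (N - n) (isCoh_push ι hF) (show n + (N - n) = N by omega)) ξ hξ

end Groth.Agent.ProjDual12
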