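import Groth.Agent.Lib.ProjDual12.RangeDuality
import Groth.Agent.Lib.ProjDual12.Dualizing
import Groth.Agent.Lib.EnriquesSeveri11.Proper
import Groth.Agent.Lib.EnriquesSeveri11.Lef
import Groth.Agent.Lib.Goren.GorenFinLen27
import Groth.Agent.Lib.ModM1.Pull

/-!
# Duality on closed subschemes of projective space
-/

set_option autoImplicit false
set_option linter.style.haveILetI false
set_option linter.unusedSectionVars false
set_option backward.isDefEq.respectTransparency false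
set_option backward.isDefEq.respectTransparency.types false

universe u

open CategoryTheory CategoryTheory.Limits AlgebraicGeometry TopologicalSpace Opposite Abelian

noncomputable section

namespace Groth.Agent.ProjDual12

open Groth.Agent Groth.Agent.CurveCoh17

theorem nonempty_ihom_invertible_iso {X : Scheme.{u}} {L L' : X.Modules} (hL : PicF.IsInvertible L)
    (e : CohB1.tensorMod L' L ≅ Coh.structureModule X) (W : X.Modules) :
    Nonempty ((CohMop.ihom L).obj W ≅ CohB1.tensorMod W L') := by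
  haveI := VB17.isEquivalence_tensorR hL
  let A := (M2.tensorR L).asEquivalence.toAdjunction
  let η : CohMop.ihom L ≅ (M2.tensorR L).inv :=
    (CohMop.ihomAdj L).rightAdjointUniq (A.ofNatIsoLeft (ES11.tenRIso L).symm)
  let u : CohB1.tensorMod (CohB1.tensorMod W L') L ≅ W :=
    M2.tensorAssoc _ _ _ ≪≫ M2.tensorIso (Iso.refl W) e ≪≫ M2.tensorRUnit W
  exact ⟨η.app W ≪≫ (M2.tensorR L).inv.mapIso u.symm ≪≫
    ((M2.tensorR L).asEquivalence.unitIso.app (CohB1.tensorMod W L')).symm⟩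

variable {k : Type u} [Field k] {N : ℕ} {X : Scheme.{u}} [X.Over (Spec (CommRingCat.of k))]
  (ι : X ⟶ CohB1.ProjSpace N k) [IsClosedImmersion ι]

/-- `O_X(a)`. -/
abbrev ox (a : ℤ) : X.Modules := (Scheme.Modules.pullback ι).obj (_root_.Twist.twistProjSpace N k a)

/-- The vanishing of very negative twists of `O_X` in degree `p`. -/
def NegX (p : ℕ) : Prop := ∃ m₀ : ℤ, ∀ m : ℤ, m₀ ≤ m → Subsingleton (Coh.HH X (ox ι (-m)) p)

theorem exists_ext_ox_vanishing [HasExt.{u} X.Modules]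
    (hι : ι ≫ CohB1.ProjSpace.toSpec N k = X ↘ Spec (CommRingCat.of k)) {ω : X.Modules} (hω : Coh.IsCoh ω) :
    ∃ M : ℤ, ∀ m : ℤ, M ≤ m → ∀ p, 0 < p → Subsingleton (Ext (ox ι (-m)) ω p) := by
  haveI := CMReg18.isProper_projSpace k (n := N)
  obtain ⟨a₀, ha⟩ := (CMReg18.projData k N).exists_van_large k (CMReg18.isAmple_twistOne k) (isCoh_push ι hω)
  refine ⟨a₀, fun m hm p hp => ?_⟩
  let D := (CMReg18.projData k N).pullback ι
  have hL : PicF.IsInvertible (ox ι (-m)) := D.inv (-m)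
  obtain ⟨e⟩ := CohMop.nonempty_ext_addEquiv_HH (M2.isFinLocFree_of_isInvertible hL) ω p
  obtain ⟨e'⟩ := nonempty_ihom_invertible_iso (L' := ox ι m) hL
    (D.add m (-m) ≪≫ eqToIso (congrArg D.O (add_neg_cancel m)) ≪≫ D.zero) ω
  obtain ⟨e''⟩ := CMReg18.nonempty_HH_push_tw (k := k) ι hι hω.1 m p
  exact ((e.toEquiv.trans (hequiv k e' p).toEquiv).trans e''.toEquiv.symm).subsingleton_congr.2 (ha p m hp hm)

theorem acyclicRange [HasExt.{u} X.Modules]
    (hι : ι ≫ CohB1.ProjSpace.toSpec N k = X ↘ Spec (CommRingCat.of k)) {n s : ℕ} {ω : X.Modules}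
    (hω : Coh.IsCoh ω) (hneg : ∀ p, p < n → n ≤ p + s → NegX ι p) : AcyclicRange k n s ω := by
  intro G hG
  haveI : IsLocallyNoetherian (CohB1.ProjSpace N k) := CohFound.ProjNum.isLocallyNoetherian_projSpace N k
  haveI : IsLocallyNoetherian X := LocallyOfFiniteType.isLocallyNoetherian ι
  obtain ⟨M, hM⟩ := exists_ext_ox_vanishing ι hι hω
  have hneg' : ∀ p, ∃ m₀ : ℤ, ∀ m : ℤ, m₀ ≤ m → p < n → n ≤ p + s → Subsingleton (Coh.HH X (ox ι (-m)) p) := by
    intro p
    by_cases h : p < n ∧ n ≤ p + s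
    · exact (hneg p h.1 h.2).imp fun _ hm m hm' _ _ => hm m hm'
    · exact ⟨0, fun m _ h1 h2 => absurd ⟨h1, h2⟩ h⟩
  choose m₀ hm₀ using hneg'
  let B : ℕ := max M.toNat ((Finset.range n).sup fun p => (m₀ p).toNat)
  obtain ⟨b, m, π, hBm, hπ⟩ := exists_epi_sum (isCoh_push ι hG) B
  haveI := hπ
  haveI := CohMop.isIso_counit_closedImmersion ι G
  haveI : (Scheme.Modules.pullback ι).IsLeftAdjoint :=
    (Scheme.Modules.pullbackPushforwardAdjunction ι).isLeftAdjoint
  let g₀ := (Scheme.Modules.pullback ι).map π ≫ (Scheme.Modules.pullbackPushforwardAdjunction ι).counit.app G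
  let L := ox ι (-((N : ℤ) + 1 + m))
  haveI : PreservesColimitsOfSize.{0, 0} (Scheme.Modules.pullback ι) :=
    (Scheme.Modules.pullbackPushforwardAdjunction ι).leftAdjoint_preservesColimits
  let u : (∐ fun _ : Fin b => L) ≅ (Scheme.Modules.pullback ι).obj (∐ fun _ : Fin b => tneg k N m) :=
    (PreservesCoproduct.iso (Scheme.Modules.pullback ι) fun _ : Fin b => tneg k N m).symm
  let g : (∐ fun _ : Fin b => L) ⟶ G := u.hom ≫ g₀
  haveI : Epi g₀ := epi_comp _ _
  haveI : Epi g := epi_comp _ _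
  have hL : PicF.IsInvertible L := ((CMReg18.projData k N).pullback ι).inv _
  have hE : Coh.IsCoh (∐ fun _ : Fin b => L) :=
    CohFound.isCoh_of_iso u.symm (M1.isCoh_pullback ι (isCoh_sum (k := k) (n := N) (m := m) b))
  refine ⟨_, _, kernel.ι g, g, kernel.condition g, { exact := ShortComplex.exact_kernel g },
    CurveCoh17.isCoh_kernel hE hG.1 g, hE, fun p hp _ => subsingleton_ext_coprod b (hM _ ?_ p hp),
    fun p h1 h2 => subsingleton_HH_coprod k b (hm₀ p _ ?_ h1 h2)⟩
  · have h' : (M.toNat : ℕ) ≤ m := (le_max_left _ _).trans hBm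
    omega
  · have h' : (m₀ p).toNat ≤ m :=
      ((Finset.le_sup (f := fun p => (m₀ p).toNat) (Finset.mem_range.2 h1)).trans (le_max_right _ _)).trans hBm
    omega

theorem negX_of_depth {n : ℕ}
    (hd : ∀ x : X, IsClosed ({x} : Set ↥X) →
      (n : ℕ∞) ≤ LocCoh.depth (X.presheaf.stalk x) (X.presheaf.stalk x)) {p : ℕ} (hp : p < n) : NegX ι p := by
  haveI : IsLocallyNoetherian (CohB1.ProjSpace N k) := CohFound.ProjNum.isLocallyNoetherian_projSpace N k
  haveI : IsLocallyNoetherian X := LocallyOfFiniteType.isLocallyNoetherian ι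
  refine (negVan_push_structure_iff ι p).1 ?_
  refine ES11.negVan_of_depth_gt (isCoh_push ι (M1.isCoh_structureModule X)) p (fun y hy => ?_) le_rfl
  by_cases hyr : y ∈ Set.range ι
  · obtain ⟨z, rfl⟩ := hyr
    have hz : IsClosed ({z} : Set X) := by
      have h := hy.preimage ι.continuous
      rwa [← Set.image_singleton, Set.preimage_image_eq _ ι.isClosedEmbedding.injective] at h
    rw [ES11.depth_push_stalk, ES11.depth_structureModule]
    exact lt_of_lt_of_le (by exact_mod_cast hp) (hd z hz)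
  · rw [ES11.depth_push_stalk_notMem ι _ hyr]
    exact ENat.natCast_lt_top _

theorem le_depth_of_negX {n : ℕ} (h : ∀ p, p < n → NegX ι p) (x : X) (hx : IsClosed ({x} : Set ↥X)) :
    (n : ℕ∞) ≤ LocCoh.depth (X.presheaf.stalk x) (X.presheaf.stalk x) := by
  haveI : IsLocallyNoetherian (CohB1.ProjSpace N k) := CohFound.ProjNum.isLocallyNoetherian_projSpace N k
  haveI : IsLocallyNoetherian X := LocallyOfFiniteType.isLocallyNoetherian ι
  let F := (Scheme.Modules.pushforward ι).obj (Coh.structureModule X)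
  have hF : Coh.IsCoh F := isCoh_push ι (M1.isCoh_structureModule X)
  have hy : IsClosed ({ι x} : Set (CohB1.ProjSpace N k)) := by
    rw [← Set.image_singleton]
    exact ι.isClosedEmbedding.isClosedMap _ hx
  rw [← ES11.depth_structureModule, ← ES11.depth_push_stalk ι]
  haveI := ES11.regular_stalk k N (ι x)
  haveI := S0342.result ((CohB1.ProjSpace N k).presheaf.stalk (ι x))
  haveI := M1.finite_stalk hF.1 hF.2 (ι x)
  rw [GorenLib.natCast_le_depth_iff_H]
  exact fun p hp => (negVan_iff_H hF p).1 ((negVan_push_structure_iff ι p).2 (h p hp)) (ι x) hy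

theorem isCM_of_negX {n : ℕ} (hn : topologicalKrullDim ↥X = n) (h : ∀ p, p < n → NegX ι p) (x : X)
    (hx : IsClosed ({x} : Set ↥X)) :
    LocCoh.IsCohenMacaulayLocalRing (X.presheaf.stalk x) ∧ ringKrullDim (X.presheaf.stalk x) = n := by
  haveI : IsLocallyNoetherian (CohB1.ProjSpace N k) := CohFound.ProjNum.isLocallyNoetherian_projSpace N k
  haveI : IsLocallyNoetherian X := LocallyOfFiniteType.isLocallyNoetherian ι
  have h1 : ringKrullDim (X.presheaf.stalk x) ≤ (n : WithBot ℕ∞) :=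
    hn ▸ VB17.ringKrullDim_stalk_le_topologicalKrullDim x
  have h2 := le_depth_of_negX ι h x hx
  have h3 : ((LocCoh.depth (X.presheaf.stalk x) (X.presheaf.stalk x) : ℕ∞) : WithBot ℕ∞) ≤
      ringKrullDim (X.presheaf.stalk x) := by
    rw [← Module.supportDim_self_eq_ringKrullDim]
    exact DepthLib.depth_le_supportDim
  have h4 : ((LocCoh.depth (X.presheaf.stalk x) (X.presheaf.stalk x) : ℕ∞) : WithBot ℕ∞) = n :=
    le_antisymm (h3.trans h1) (by exact_mod_cast h2)
  have h5 : ringKrullDim (X.presheaf.stalk x) = n := le_antisymm h1 (h4 ▸ h3)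
  exact ⟨{ supportDim_eq_depth := by rw [Module.supportDim_self_eq_ringKrullDim, h5, h4] }, h5⟩

variable [HasExt.{u} X.Modules] {n : ℕ} {ω : X.Modules} (t : Coh.HH X ω n →ₗ[k] k)

theorem rep_of_hdual (hdual : ∀ F : X.Modules, Coh.IsCoh F → ∀ ψ : Coh.HH X F n →ₗ[k] k,
      ∃! φ : F ⟶ ω, ∀ x : Coh.HH X F n,
        ψ x = t (Sheaf.H.map ((SheafOfModules.toSheaf X.ringCatSheaf).map φ) n x))
    {G : X.Modules} (hG : Coh.IsCoh G) : Function.Bijective fun φ : G ⟶ ω => t.comp (hmap k φ n) := by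
  refine ⟨fun φ φ' h => ?_, fun ψ => ?_⟩
  · obtain ⟨φ₀, -, hu⟩ := hdual G hG (t.comp (hmap k φ n))
    exact (hu φ fun x => rfl).trans (hu φ' fun x => LinearMap.congr_fun h x).symm
  · obtain ⟨φ, hφ, -⟩ := hdual G hG ψ
    exact ⟨φ, LinearMap.ext fun x => (hφ x).symm⟩

theorem nonempty_ext_dual (hι : ι ≫ CohB1.ProjSpace.toSpec N k = X ↘ Spec (CommRingCat.of k))
    (hω : Coh.IsCoh ω) (hdual : ∀ F : X.Modules, Coh.IsCoh F → ∀ ψ : Coh.HH X F n →ₗ[k] k,
      ∃! φ : F ⟶ ω, ∀ x : Coh.HH X F n,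
        ψ x = t (Sheaf.H.map ((SheafOfModules.toSheaf X.ringCatSheaf).map φ) n x))
    {s : ℕ} (hneg : ∀ p, p < n → n ≤ p + s → NegX ι p) {F : X.Modules} (hF : Coh.IsCoh F)
    {i q : ℕ} (hi : i ≤ s) (h : q + i = n) :
    Nonempty (Ext F ω i ≃ₗ[k] Module.Dual k (Coh.HH X F q)) :=
  ⟨LinearEquiv.ofBijective (pairL t h)
    (pairT_bijective_range t (rep_of_hdual t hdual) (acyclicRange ι hι hω hneg) i hi hF h)⟩

theorem subsingleton_ext_iff_HH {F : X.Modules} {i q : ℕ} (e : Ext F ω i ≃ₗ[k] Module.Dual k (Coh.HH X F q)) :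
    Subsingleton (Ext F ω i) ↔ Subsingleton (Coh.HH X F q) := by
  rw [e.toEquiv.subsingleton_congr]
  constructor
  · intro h
    refine subsingleton_of_forall_eq 0 fun x => ?_
    refine (Module.forall_dual_apply_eq_zero_iff k x).1 fun φ => ?_
    rw [h.elim φ 0, LinearMap.zero_apply]
  · intro h
    exact ⟨fun a b => LinearMap.ext fun x => by rw [h.elim x 0, map_zero, map_zero]⟩

theorem negX_of_ext_iff (hι : ι ≫ CohB1.ProjSpace.toSpec N k = X ↘ Spec (CommRingCat.of k))
    (hω : Coh.IsCoh ω) {s : ℕ}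
    (h : ∀ F : X.Modules, Coh.IsCoh F → ∀ i : ℕ, i ≤ s →
      (Subsingleton (Ext F ω i) ↔ Subsingleton (Coh.HH X F (n - i))))
    {p : ℕ} (h1 : p < n) (h2 : n ≤ p + s) : NegX ι p := by
  obtain ⟨M, hM⟩ := exists_ext_ox_vanishing ι hι hω
  refine ⟨M, fun m hm => ?_⟩
  have hc : Coh.IsCoh (ox ι (-m)) :=
    Snapper.isCoh_of_isInvertible (((CMReg18.projData k N).pullback ι).inv (-m))
  have := (h _ hc (n - p) (by omega)).1 (hM m hm (n - p) (by omega))
  rwa [show n - (n - p) = p by omega] at this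

theorem isCoh_dualizing {N' c : ℕ} {Y : Scheme.{u}} {j : Y ⟶ CohB1.ProjSpace N' k} [IsClosedImmersion j]
    {G : (CohB1.ProjSpace N' k).Modules} (hG : Coh.IsCoh G) {M : Y.Modules}
    (e : (Scheme.Modules.pushforward j).obj M ≅ exd G c) : Coh.IsCoh M := by
  haveI := CohMop.isIso_counit_closedImmersion j M
  exact CohFound.isCoh_of_iso (asIso ((Scheme.Modules.pullbackPushforwardAdjunction j).counit.app M))
    (M1.isCoh_pullback j (CohFound.isCoh_of_iso e.symm (isCoh_exd hG c)))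

end Groth.Agent.ProjDual12
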