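import Groth.Agent.Lib.ProjDual12.ExtVan
import Groth.Agent.Lib.CohMop.StalkExt
import Groth.Agent.Lib.CohMop.ExtZVanish
import Groth.Agent.Lib.CohMop.StalkDepth
import Groth.Agent.Lib.Goren.GorenDual27
import Groth.Agent.Lib.CurveCoh17.Integral
import Groth.Agent.S0342
import Mathlib.Algebra.Homology.DerivedCategory.Ext.MapBijective
import Mathlib.Algebra.Category.ModuleCat.ChangeOfRings
import Mathlib.Algebra.Category.ModuleCat.Projective

/-!
# Vanishing of negative twists on projective space against stalks: local `Ext`, local cohomology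
-/

set_option autoImplicit false
set_option linter.style.haveILetI false
set_option linter.unusedSectionVars false
set_option backward.isDefEq.respectTransparency false
set_option backward.isDefEq.respectTransparency.types false

universe v u u'

open CategoryTheory CategoryTheory.Limits AlgebraicGeometry TopologicalSpace Opposite Abelian

noncomputable section

namespace Groth.Agent.ProjDual12

open Groth.Agent

theorem subsingleton_ext_of_iso {C : Type u'} [Category.{v} C] [Abelian C] [HasExt.{u} C] {A A' B B' : C}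
    (a : A' ≅ A) (b : B ≅ B') {n : ℕ} (h : Subsingleton (Ext A B n)) : Subsingleton (Ext A' B' n) := by
  refine subsingleton_of_forall_eq 0 fun z => ?_
  have h0 : ((Ext.mk₀ a.inv).comp z (zero_add n)).comp (Ext.mk₀ b.inv) (add_zero n) = 0 := h.elim _ _
  calc z = (Ext.mk₀ a.hom).comp ((((Ext.mk₀ a.inv).comp z (zero_add n)).comp (Ext.mk₀ b.inv) (add_zero n)).comp
        (Ext.mk₀ b.hom) (add_zero n)) (zero_add n) := by simp [Ext.comp_assoc_of_second_deg_zero]
    _ = 0 := by rw [h0, Ext.zero_comp, Ext.comp_zero]

section stalk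

variable {X : Scheme.{u}} (x : X)

/-- The stalk over the local ring, through the comparison of local rings. -/
def stRestrict (M : X.Modules) :
    (ModuleCat.restrictScalarsEquivalenceOfRingEquiv.{u} (CohMop.ringCmp x)).functor.obj ((CohMop.stFun x).obj M) ≅
      ModuleCat.of (X.presheaf.stalk x) (M.presheaf.stalk x) :=
  LinearEquiv.toModuleIso (show ↑((ModuleCat.restrictScalarsEquivalenceOfRingEquiv.{u} (CohMop.ringCmp x)).functor.obj
      ((CohMop.stFun x).obj M)) ≃ₗ[X.presheaf.stalk x] M.presheaf.stalk x from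
    { toFun := fun a => (CohMop.modCmp x M).symm a
      invFun := fun b => CohMop.modCmp x M b
      map_add' := fun a b => map_add (CohMop.modCmp x M).symm a b
      map_smul' := fun r a => (CohMop.modCmp x M).injective (by
        refine ((CohMop.modCmp x M).apply_symm_apply _).trans ?_
        exact ((CohMop.modCmp_smul x M r _).trans
          (congrArg _ ((CohMop.modCmp x M).apply_symm_apply a))).symm)
      left_inv := fun a => (CohMop.modCmp x M).apply_symm_apply a
      right_inv := fun b => (CohMop.modCmp x M).symm_apply_apply b })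

theorem subsingleton_ext_stalk_iff (M N : X.Modules) (j : ℕ) :
    Subsingleton (Ext ((CohMop.stFun x).obj M) ((CohMop.stFun x).obj N) j) ↔
      Subsingleton (Ext (ModuleCat.of (X.presheaf.stalk x) (M.presheaf.stalk x))
        (ModuleCat.of (X.presheaf.stalk x) (N.presheaf.stalk x)) j) := by
  let E := ModuleCat.restrictScalarsEquivalenceOfRingEquiv.{u} (CohMop.ringCmp x)
  haveI : E.functor.Additive :=
    inferInstanceAs (ModuleCat.restrictScalars (CohMop.ringCmp x).toRingHom).Additive
  rw [(Equiv.ofBijective _ (E.functor.mapExt_bijective_of_preservesProjectiveObjects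
    ((CohMop.stFun x).obj M) ((CohMop.stFun x).obj N) j)).subsingleton_congr]
  exact ⟨subsingleton_ext_of_iso (stRestrict x M).symm (stRestrict x N),
    subsingleton_ext_of_iso (stRestrict x M) (stRestrict x N).symm⟩

theorem isZero_stFun_extSh_iff [IsLocallyNoetherian X] {F L : X.Modules} (hF : Coh.IsCoh F)
    (hL : PicF.IsInvertible L) (j : ℕ) :
    IsZero ((CohMop.stFun x).obj (((CohMop.ihom F).rightDerived j).obj L)) ↔
      Subsingleton (Ext (ModuleCat.of (X.presheaf.stalk x) (F.presheaf.stalk x))
        (ModuleCat.of (X.presheaf.stalk x) (X.presheaf.stalk x)) j) := by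
  obtain ⟨e⟩ := CohMop.nonempty_stalk_extSh x hF L j
  obtain ⟨eL⟩ := CurveCoh17.nonempty_stalk_equiv ((M2.isInvertible_iff_isFinLocFreeOfRank_one L).1 hL) x
  let b := (eL.trans (LinearEquiv.funUnique (Fin 1) (X.presheaf.stalk x) (X.presheaf.stalk x))).toModuleIso
  rw [e.isZero_iff, ModuleCat.isZero_of_iff_subsingleton, subsingleton_ext_stalk_iff x F L j]
  exact ⟨subsingleton_ext_of_iso (Iso.refl _) b, subsingleton_ext_of_iso (Iso.refl _) b.symm⟩

theorem isZero_extSh_iff [IsLocallyNoetherian X] {F L : X.Modules} (hF : Coh.IsCoh F)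
    (hL : PicF.IsInvertible L) (j : ℕ) :
    IsZero (((CohMop.ihom F).rightDerived j).obj L) ↔
      ∀ x : X, Subsingleton (Ext (ModuleCat.of (X.presheaf.stalk x) (F.presheaf.stalk x))
        (ModuleCat.of (X.presheaf.stalk x) (X.presheaf.stalk x)) j) :=
  ⟨fun h x => (isZero_stFun_extSh_iff x hF hL j).1 ((CohMop.stFun x).map_isZero h),
    fun h => CohMop.isZero_of_stFun fun x => (isZero_stFun_extSh_iff x hF hL j).2 (h x)⟩

/-- Closed points detect vanishing of coherent Ext sheaves. -/
theorem isZero_extSh_iff_closed [IsLocallyNoetherian X] [CompactSpace X] {F L : X.Modules} (hF : Coh.IsCoh F)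
    (hL : PicF.IsInvertible L) (j : ℕ) :
    IsZero (((CohMop.ihom F).rightDerived j).obj L) ↔
      ∀ x : X, IsClosed ({x} : Set X) → Subsingleton (Ext (ModuleCat.of (X.presheaf.stalk x) (F.presheaf.stalk x))
        (ModuleCat.of (X.presheaf.stalk x) (X.presheaf.stalk x)) j) := by
  refine ⟨fun h x _ => (isZero_extSh_iff hF hL j).1 h x, fun h => CohMop.isZero_of_stFun fun x => ?_⟩
  by_contra hx
  let Q := ((CohMop.ihom F).rightDerived j).obj L
  have hQ : Coh.IsCoh Q := CohMop.isCoh_extSheaf j F _ hF (Snapper.isCoh_of_isInvertible hL)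
  have hxs : x ∈ CohB1.support Q := by
    by_contra hn
    refine hx (ModuleCat.isZero_of_iff_subsingleton.2 ?_)
    refine subsingleton_of_forall_eq 0 fun a => ?_
    obtain ⟨b, rfl⟩ := (CohMop.modCmp x Q).surjective a
    exact (congrArg (CohMop.modCmp x Q) ((M1.notMem_support_iff Q x).1 hn b)).trans (map_zero _)
  obtain ⟨y, hy, hyc⟩ := (M1.isClosed_support hQ.2).exists_closed_singleton ⟨x, hxs⟩
  refine (M1.notMem_support_iff Q y).2 (fun a => ?_) hy
  haveI := ModuleCat.subsingleton_of_isZero ((isZero_stFun_extSh_iff y hF hL j).2 (h y hyc))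
  exact (CohMop.modCmp y Q).injective (Subsingleton.elim (α := (CohMop.stFun y).obj Q) _ _)

end stalk

variable {k : Type u} [Field k] {r : ℕ}

theorem negVan_iff_ext {F : (CohB1.ProjSpace r k).Modules} (hF : Coh.IsCoh F) {i j : ℕ} (hij : i + j = r) :
    ES11.NegVan F i ↔ ∀ x : (CohB1.ProjSpace r k), Subsingleton (Ext
      (ModuleCat.of ((CohB1.ProjSpace r k).presheaf.stalk x) (F.presheaf.stalk x))
      (ModuleCat.of ((CohB1.ProjSpace r k).presheaf.stalk x) ((CohB1.ProjSpace r k).presheaf.stalk x)) j) := by
  haveI : IsLocallyNoetherian (CohB1.ProjSpace r k) := CohFound.ProjNum.isLocallyNoetherian_projSpace r k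
  rw [show i = r - j by omega, negVan_iff j hF (by omega)]
  exact isZero_extSh_iff hF (_root_.Groth.Agent.Twist.isInvertible_twistProjSpace r k _) j

theorem negVan_iff_H {F : (CohB1.ProjSpace r k).Modules} (hF : Coh.IsCoh F) (i : ℕ) :
    ES11.NegVan F i ↔ ∀ x : (CohB1.ProjSpace r k), IsClosed ({x} : Set (CohB1.ProjSpace r k)) →
      Subsingleton (LocCoh.H (IsLocalRing.maximalIdeal ((CohB1.ProjSpace r k).presheaf.stalk x)) i
        (F.presheaf.stalk x)) := by
  haveI : IsLocallyNoetherian (CohB1.ProjSpace r k) := CohFound.ProjNum.isLocallyNoetherian_projSpace r k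
  haveI := CMReg18.isProper_projSpace k (n := r)
  haveI : CompactSpace (CohB1.ProjSpace r k) := QuasiCompact.compactSpace_of_compactSpace (CohB1.ProjSpace.toSpec r k)
  by_cases hi : i ≤ r
  · rw [show i = r - (r - i) by omega, negVan_iff (r - i) hF (by omega),
      isZero_extSh_iff_closed hF (_root_.Groth.Agent.Twist.isInvertible_twistProjSpace r k _)]
    refine forall₂_congr fun x hx => ?_
    haveI := ES11.regular_stalk k r x
    haveI := S0342.result ((CohB1.ProjSpace r k).presheaf.stalk x)
    haveI := M1.finite_stalk hF.1 hF.2 x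
    rw [GorenLib.subsingleton_ext_iff_H (ES11.ringKrullDim_stalk_closed k r x hx)]
    exact ⟨fun h => h _ (by omega), fun h i' hi' => (show i' = r - (r - i) by omega) ▸ h⟩
  · refine iff_of_true ⟨0, fun m _ => CMReg18.subsingleton_HH_of_lt k (isCoh_ptw hF (-m)).1 (by omega)⟩
      fun x hx => ?_
    haveI := ES11.regular_stalk k r x
    exact LocCohLib.cdLE_of_ringKrullDim_le (IsLocalRing.maximalIdeal _)
      (ES11.ringKrullDim_stalk_closed k r x hx).le (F.presheaf.stalk x) i (by omega)

end Groth.Agent.ProjDual12
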