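import Groth.Agent.Lib.DimF18.Basic
import Groth.Agent.Lib.VarDim.Scheme

/-!
# Local rings at closed points of schemes of pure dimension
-/

set_option autoImplicit false
set_option linter.style.haveILetI false
set_option backward.isDefEq.respectTransparency false

universe u

open CategoryTheory AlgebraicGeometry TopologicalSpace

namespace Groth.Agent.ProjDual12

/-- In pure dimension `n` the local rings at closed points have dimension at least `n`. -/
theorem le_ringKrullDim_stalk_closed {k : Type u} [Field k] {X : Scheme.{u}} (f : X ⟶ Spec (CommRingCat.of k))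
    [LocallyOfFiniteType f] {n : ℕ}
    (heq : ∀ Z : Set ↥X, Z ∈ irreducibleComponents ↥X → topologicalKrullDim ↥Z = (n : WithBot ℕ∞))
    {x : X} (hx : IsClosed ({x} : Set ↥X)) : (n : WithBot ℕ∞) ≤ ringKrullDim (X.presheaf.stalk x) := by
  have hC := irreducibleComponent_mem_irreducibleComponents x
  have hCc : IsClosed (irreducibleComponent x) := isClosed_irreducibleComponent
  have hg : hC.1.genericPoint ⤳ x := by
    rw [specializes_iff_mem_closure, hC.1.closure_genericPoint hCc]
    exact mem_irreducibleComponent
  have h2 : VarDim.sdim f hC.1.genericPoint = n := by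
    have := (VarDim.dim_irreducible_isClosed f hCc hC.1).symm.trans (heq _ hC)
    exact_mod_cast this
  have h3 := DimF18.sdim_le_add_coheight f hg
  rw [h2, (VarDim.sdim_eq_zero_iff_isClosed f x).2 hx, Nat.cast_zero, zero_add] at h3
  rw [ringKrullDim_stalk_eq_coheight]
  exact WithBot.coe_le_coe.2 h3

end Groth.Agent.ProjDual12
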