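import Groth.Agent.Lib.DerAdj12.Concentrated
import Groth.Agent.Lib.ProjDual12.ExtVanStalk
import Groth.Agent.Lib.ProjDual12.PureDim
import Groth.Agent.Lib.EnriquesSeveri11.Proper
import Groth.Agent.Lib.EnriquesSeveri11.Lef
import Groth.Agent.Lib.ClImmProj14.Derived
import Groth.Agent.Lib.CohFound.ClosedImmPush
import Groth.Agent.Lib.Goren.GorenFinLen27
import Groth.Agent.S11912

/-!
# Transitivity of dualizing Ext sheaves
-/

set_option autoImplicit false
set_option linter.style.haveILetI false
set_option linter.unusedSectionVars false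
set_option backward.isDefEq.respectTransparency false
set_option backward.isDefEq.respectTransparency.types false

universe u

open CategoryTheory CategoryTheory.Limits AlgebraicGeometry TopologicalSpace Opposite Abelian

noncomputable section

namespace Groth.Agent.ProjDual12

open Groth.Agent

variable {X Y P : Scheme.{u}}

/-- `ι_* ⊣ upper ι O`. -/
def upperOAdj (ι : X ⟶ Y) [IsClosedImmersion ι]
    [ModSite.HasSheafHom (O := Y.sheaf) ((Scheme.Modules.pushforward ι).obj (Coh.structureModule X))] :
    Scheme.Modules.pushforward ι ⊣ ClImmProj14.upper ι (Coh.structureModule X) :=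
  (ClImmProj14.upperAdj ι (Coh.structureModule X)).ofNatIsoLeft
    (Functor.isoWhiskerRight RHom.unitorNatIso _ ≪≫ Functor.leftUnitor _)

/-- `upper` of a composite. -/
def upperCompIso (i : X ⟶ Y) (j : Y ⟶ P) [IsClosedImmersion i] [IsClosedImmersion j]
    [ModSite.HasSheafHom (O := P.sheaf) ((Scheme.Modules.pushforward j).obj (Coh.structureModule Y))]
    [ModSite.HasSheafHom (O := P.sheaf) ((Scheme.Modules.pushforward (i ≫ j)).obj (Coh.structureModule X))]
    [ModSite.HasSheafHom (O := Y.sheaf) ((Scheme.Modules.pushforward i).obj (Coh.structureModule X))] :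
    ClImmProj14.upper j (Coh.structureModule Y) ⋙ ClImmProj14.upper i (Coh.structureModule X) ≅
      ClImmProj14.upper (i ≫ j) (Coh.structureModule X) :=
  (((upperOAdj i).comp (upperOAdj j)).ofNatIsoLeft (Scheme.Modules.pushforwardComp i j)).rightAdjointUniq
    (upperOAdj (i ≫ j))

theorem ringKrullDim_stalk_add_sdim_of_pure {k : Type u} [Field k] (f : X ⟶ Spec (CommRingCat.of k))
    [LocallyOfFiniteType f] {n : ℕ}
    (heq : ∀ Z : Set ↥X, Z ∈ irreducibleComponents ↥X → topologicalKrullDim ↥Z = (n : WithBot ℕ∞))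
    {x : X} {b : ℕ} (hb : ringKrullDim (X.presheaf.stalk x) = (b : WithBot ℕ∞)) : b + VarDim.sdim f x = n := by
  rw [ringKrullDim_stalk_eq_coheight] at hb
  have hb' : Order.coheight x = (b : ℕ∞) := by exact_mod_cast hb
  have hgen : ∀ z : X, ∃ g, g ⤳ z ∧ VarDim.sdim f g = n := fun z => by
    have hC := irreducibleComponent_mem_irreducibleComponents z
    have hCc : IsClosed (irreducibleComponent z) := isClosed_irreducibleComponent
    refine ⟨hC.1.genericPoint, ?_, ?_⟩
    · rw [specializes_iff_mem_closure, hC.1.closure_genericPoint hCc]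
      exact mem_irreducibleComponent
    · have := (VarDim.dim_irreducible_isClosed f hCc hC.1).symm.trans (heq _ hC)
      exact_mod_cast this
  obtain ⟨z, -, hz⟩ := DimF18.exists_generization_sdim f hb'
  obtain ⟨g, hg, hgn⟩ := hgen z
  have h1 : VarDim.sdim f z ≤ n := by
    by_cases he : g = z
    · exact (he ▸ hgn).le
    · exact hgn ▸ (VarDim.sdim_lt_of_specializes f hg he).le
  obtain ⟨g', hg', hgn'⟩ := hgen x
  have h2 := DimF18.sdim_le_add_coheight f hg'
  rw [hgn', hb'] at h2
  have h2' : n ≤ VarDim.sdim f x + b := by exact_mod_cast h2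
  omega

theorem exists_dim_stalk_eq (R : Type u) [CommRing R] [IsLocalRing R] [IsNoetherianRing R] :
    ∃ b : ℕ, ringKrullDim R = (b : WithBot ℕ∞) := by
  obtain ⟨d, hd⟩ := WithBot.ne_bot_iff_exists.1 (ringKrullDim_ne_bot (R := R))
  have h : d ≠ ⊤ := fun h => by
    have := ringKrullDim_lt_top (R := R)
    rw [← hd, h] at this
    exact lt_irrefl _ this
  obtain ⟨b, hb⟩ := ENat.ne_top_iff_exists.1 h
  exact ⟨b, by rw [← hd, ← hb]; rfl⟩

/-- On a regular ambient, a Cohen–Macaulay subscheme has `Ext` in its codimension only. -/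
theorem isZero_upper_of_ne {k : Type u} [Field k] [P.Over (Spec (CommRingCat.of k))]
    [LocallyOfFiniteType (P ↘ Spec (CommRingCat.of k))]
    (hreg : ∀ p : P, IsRegularLocalRing (P.presheaf.stalk p)) {n s : ℕ} (hsn : s ≤ n)
    (hP : ∀ Z : Set ↥P, Z ∈ irreducibleComponents ↥P → topologicalKrullDim ↥Z = (n : WithBot ℕ∞))
    (j : Y ⟶ P) [IsClosedImmersion j] (hCM : ∀ y : Y, LocCoh.IsCohenMacaulayLocalRing (Y.presheaf.stalk y))
    (hY : ∀ Z : Set ↥Y, Z ∈ irreducibleComponents ↥Y → topologicalKrullDim ↥Z = (s : WithBot ℕ∞))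
    {ωP : P.Modules} (hωP : FlatMod.IsFinLocFreeOfRank 1 ωP)
    [ModSite.HasSheafHom (O := P.sheaf) ((Scheme.Modules.pushforward j).obj (Coh.structureModule Y))]
    [HasInjectiveResolutions (ModSite.Mod P.sheaf)] (q : ℕ) (hq : q ≠ n - s) :
    haveI := ClImmProj14.upper_additive j (Coh.structureModule Y)
    IsZero (((ClImmProj14.upper j (Coh.structureModule Y)).rightDerived q).obj ωP) := by
  haveI : IsLocallyNoetherian P := LocallyOfFiniteType.isLocallyNoetherian (P ↘ Spec (CommRingCat.of k))
  haveI : IsLocallyNoetherian Y := LocallyOfFiniteType.isLocallyNoetherian j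
  haveI := ClImmProj14.upper_additive j (Coh.structureModule Y)
  obtain ⟨e⟩ := ClImmProj14.nonempty_extSh_iso j (Coh.structureModule Y) q ωP
  suffices hz : IsZero ((ModSite.extSh (O := P.sheaf)
      ((Scheme.Modules.pushforward j).obj (Coh.structureModule Y)) q).obj ωP) by
    rw [IsZero.iff_id_eq_zero]
    exact (ClImmProj14.pushFF j).map_injective ((hz.of_iso e.symm).eq_of_src _ _)
  rcases Nat.lt_or_gt_of_ne hq with hlt | hgt
  · exact S11912.result k P Y hreg n s hsn hP j hY ωP hωP q hlt
  let F := (Scheme.Modules.pushforward j).obj (Coh.structureModule Y)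
  have hF : Coh.IsCoh F := CohFound.isCoh_push_closedImm j (M1.isCoh_structureModule Y)
  refine (isZero_extSh_iff hF ((M2.isInvertible_iff_isFinLocFreeOfRank_one ωP).2 hωP) q).2 fun x => ?_
  by_cases hx : x ∈ Set.range j
  · obtain ⟨y, rfl⟩ := hx
    haveI := hreg (j y)
    haveI := S0342.result (P.presheaf.stalk (j y))
    haveI := M1.finite_stalk hF.1 hF.2 (j y)
    haveI := hCM y
    obtain ⟨N, hN⟩ := exists_dim_stalk_eq (P.presheaf.stalk (j y))
    obtain ⟨M, hM⟩ := exists_dim_stalk_eq (Y.presheaf.stalk y)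
    have h1 := ringKrullDim_stalk_add_sdim_of_pure (P ↘ Spec (CommRingCat.of k)) hP hN
    have h2 := ringKrullDim_stalk_add_sdim_of_pure (j ≫ (P ↘ Spec (CommRingCat.of k))) hY hM
    rw [VarDim.sdim_comp_of_surjective (P ↘ Spec (CommRingCat.of k)) j y] at h2
    refine (GorenLib.subsingleton_ext_iff_H hN (F.presheaf.stalk (j y)) q).2 fun i hi => ?_
    refine (GorenLib.natCast_le_depth_iff_H (R := P.presheaf.stalk (j y)) (M := F.presheaf.stalk (j y)) M).1 ?_ i (by omega)
    rw [ES11.depth_push_stalk, ES11.depth_structureModule]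
    have h3 := LocCoh.IsCohenMacaulayLocalRing.supportDim_eq_depth (R := Y.presheaf.stalk y)
    rw [Module.supportDim_self_eq_ringKrullDim, hM] at h3
    exact_mod_cast h3.le
  · haveI : Subsingleton (F.presheaf.stalk x) :=
      subsingleton_of_forall_eq 0 fun a => M1.eq_zero_stalk_push j _ hx a
    exact subsingleton_of_forall_eq 0 fun z => by
      rw [← Ext.mk₀_id_comp z, show 𝟙 (ModuleCat.of _ _) = 0 from
        ModuleCat.hom_ext (LinearMap.ext fun a => Subsingleton.elim _ _), Ext.mk₀_zero, Ext.zero_comp]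

end Groth.Agent.ProjDual12
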