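import Groth.Agent.Lib.EnriquesSeveri11.ProjFacts
import Groth.Agent.Lib.NumPoly18.SurfCartier
import Groth.Agent.Lib.RegExt.P1
import Groth.Agent.Lib.TopDimLib.Basic

/-!
# Codimension of the components of a closed subscheme of projective space
-/

set_option autoImplicit false
set_option linter.style.haveILetI false
set_option backward.isDefEq.respectTransparency false

universe u

open CategoryTheory AlgebraicGeometry TopologicalSpace

namespace Groth.Agent.ProjDual12

open Groth.Agent

variable {k : Type u} [Field k] {N : ℕ}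

theorem ringKrullDim_stalk_add_sdim (p : CohB1.ProjSpace N k) :
    ringKrullDim ((CohB1.ProjSpace N k).presheaf.stalk p) +
      (VarDim.sdim (CohB1.ProjSpace.toSpec N k) p : WithBot ℕ∞) = (N : WithBot ℕ∞) := by
  haveI := CMReg18.isProper_projSpace k (n := N)
  haveI : IsIntegral (CohB1.ProjSpace N k) := RegExt.isIntegral_projSpace N k
  haveI : CompactSpace (CohB1.ProjSpace N k) := QuasiCompact.compactSpace_of_compactSpace (CohB1.ProjSpace.toSpec N k)
  letI : (CohB1.ProjSpace N k).Over (Spec (CommRingCat.of k)) := ⟨CohB1.ProjSpace.toSpec N k⟩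
  haveI : LocallyOfFiniteType ((CohB1.ProjSpace N k) ↘ Spec (CommRingCat.of k)) :=
    inferInstanceAs (LocallyOfFiniteType (CohB1.ProjSpace.toSpec N k))
  have hd := VarDim.dim_eq_sdim_genericPoint (CohB1.ProjSpace.toSpec N k)
  obtain ⟨q, -, hq⟩ := IsClosed.exists_closed_singleton (S := (Set.univ : Set (CohB1.ProjSpace N k))) isClosed_univ
    ⟨p, trivial⟩
  have h := NumPoly18.ringKrullDim_stalk_of_sdim (k := k) hd q
  have h0 : VarDim.sdim (CohB1.ProjSpace.toSpec N k) q = 0 := (VarDim.sdim_eq_zero_iff_isClosed _ q).2 hq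
  rw [ES11.ringKrullDim_stalk_closed k N q hq] at h
  change (N : WithBot ℕ∞) + ((VarDim.sdim (CohB1.ProjSpace.toSpec N k) q : ℕ) : WithBot ℕ∞) = _ at h
  rw [h0, Nat.cast_zero, add_zero] at h
  rw [h]
  exact NumPoly18.ringKrullDim_stalk_of_sdim (k := k) hd p

theorem ringKrullDim_stalk_generic {X : Scheme.{u}} (ι : X ⟶ CohB1.ProjSpace N k) [IsClosedImmersion ι] {r : ℕ}
    (hr : r ≤ N) {x : X} (hx : topologicalKrullDim ↥(closure ({x} : Set ↥X)) = (r : WithBot ℕ∞)) :
    ringKrullDim ((CohB1.ProjSpace N k).presheaf.stalk (ι.base x)) = ((N - r : ℕ) : WithBot ℕ∞) := by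
  haveI := CMReg18.isProper_projSpace k (n := N)
  have h := ringKrullDim_stalk_add_sdim (ι.base x)
  rw [← VarDim.sdim_comp_of_surjective (CohB1.ProjSpace.toSpec N k) ι x] at h
  rw [VarDim.dim_closure_singleton (ι ≫ CohB1.ProjSpace.toSpec N k)] at hx
  have hx' : VarDim.sdim (ι ≫ CohB1.ProjSpace.toSpec N k) x = r := by exact_mod_cast hx
  rw [hx'] at h
  haveI := ES11.regular_stalk k N (ι.base x)
  obtain ⟨d, hd⟩ : ∃ d : ℕ, ringKrullDim ((CohB1.ProjSpace N k).presheaf.stalk (ι.base x)) = (d : WithBot ℕ∞) :=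
    ⟨_, (IsRegularLocalRing.spanFinrank_maximalIdeal (R := (CohB1.ProjSpace N k).presheaf.stalk (ι.base x))).symm⟩
  rw [hd] at h ⊢
  have h' : d + r = N := by exact_mod_cast h
  exact_mod_cast (show d = N - r by omega)

end Groth.Agent.ProjDual12
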