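import Groth.Agent.Lib.KCoh4.Loc
import Groth.Agent.Lib.ModM1.Stalk
import Groth.Agent.Lib.Omega12.ConormalRank
import Mathlib.Topology.NoetherianSpace

/-!
# Torsion-freeness from the vanishing of maps killed at the generic points
-/

set_option autoImplicit false
set_option linter.style.haveILetI false
set_option linter.unusedSectionVars false
set_option backward.isDefEq.respectTransparency false
set_option backward.isDefEq.respectTransparency.types false

universe u

open CategoryTheory CategoryTheory.Limits AlgebraicGeometry TopologicalSpace Opposite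

noncomputable section

namespace Groth.Agent.ProjDual12

open Groth.Agent

variable {X : Scheme.{u}}

/-- A generic point in the closure of an open lies in it. -/
theorem mem_of_generic_mem_closure [NoetherianSpace X] {η : X}
    (hη : closure ({η} : Set ↥X) ∈ irreducibleComponents ↥X) (U : X.Opens) (h : η ∈ closure (U : Set ↥X)) :
    η ∈ U := by
  let Cs : Set (Set ↥X) := irreducibleComponents ↥X \ {closure {η}}
  have hfin : Cs.Finite := NoetherianSpace.finite_irreducibleComponents.diff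
  have hO : IsOpen (⋃₀ Cs)ᶜ :=
    by rw [Set.sUnion_eq_biUnion]; exact (hfin.isClosed_biUnion fun Z hZ => isClosed_of_mem_irreducibleComponents Z hZ.1).isOpen_compl
  have hmem : η ∈ (⋃₀ Cs)ᶜ := by
    rintro ⟨Z, hZ, hηZ⟩
    have h1 : closure ({η} : Set ↥X) ⊆ Z :=
      closure_minimal (Set.singleton_subset_iff.2 hηZ) (isClosed_of_mem_irreducibleComponents Z hZ.1)
    exact hZ.2 (le_antisymm (hη.2 hZ.1.1 h1) h1)
  obtain ⟨y, hy, hyU⟩ := mem_closure_iff.1 h _ hO hmem
  have hy' : y ∈ closure ({η} : Set ↥X) := by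
    by_contra hne
    exact hy ⟨irreducibleComponent y, ⟨irreducibleComponent_mem_irreducibleComponents y,
      fun e => hne ((Set.mem_singleton_iff.1 e) ▸ mem_irreducibleComponent)⟩, mem_irreducibleComponent⟩
  exact (specializes_iff_mem_closure.2 hy').mem_open U.2 hyU

/-- Open neighbourhood of `x` whose generic points all generize `x`. -/
theorem exists_open_generics [NoetherianSpace X] (x : X) (W : X.Opens) (hx : x ∈ W) :
    ∃ U : X.Opens, IsAffineOpen U ∧ x ∈ U ∧ U ≤ W ∧
      ∀ η ∈ U, closure ({η} : Set ↥X) ∈ irreducibleComponents ↥X → η ⤳ x := by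
  let Cs : Set (Set ↥X) := {Z ∈ irreducibleComponents ↥X | x ∉ Z}
  have hfin : Cs.Finite := NoetherianSpace.finite_irreducibleComponents.subset fun _ h => h.1
  let O : X.Opens := ⟨(⋃₀ Cs)ᶜ,
    by rw [Set.sUnion_eq_biUnion]; exact (hfin.isClosed_biUnion fun Z hZ => isClosed_of_mem_irreducibleComponents Z hZ.1).isOpen_compl⟩
  obtain ⟨U, hU, hxU, hUW⟩ := exists_isAffineOpen_mem_and_subset (x := x) (U := W ⊓ O)
    ⟨hx, fun ⟨Z, hZ, hxZ⟩ => hZ.2 hxZ⟩
  refine ⟨U, hU, hxU, fun z hz => (hUW hz).1, fun η hη hc => ?_⟩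
  rw [specializes_iff_mem_closure]
  by_contra hn
  exact (hUW hη).2 ⟨closure {η}, ⟨hc, hn⟩, subset_closure rfl⟩

set_option maxHeartbeats 1000000 in
/-- Sections killed near the generic points vanish. -/
theorem eq_zero_of_generic [IsNoetherian X] {ω : X.Modules} (hω : Coh.IsCoh ω)
    (hzero : ∀ (F : X.Modules), Coh.IsCoh F → ∀ φ : F ⟶ ω,
      (∀ η : X, closure ({η} : Set ↥X) ∈ irreducibleComponents ↥X →
        ∃ U : X.Opens, η ∈ U ∧ (Scheme.Modules.restrictFunctor U.ι).map φ = 0) → φ = 0)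
    {U : X.Opens} (s : Γ(ω, U))
    (hs : ∀ η (hη : η ∈ U), closure ({η} : Set ↥X) ∈ irreducibleComponents ↥X →
      ω.presheaf.germ U η hη s = 0) : s = 0 := by
  let S : Set ↥X := {y | ∃ hy : y ∈ U, ω.presheaf.germ U y hy s ≠ 0}
  let V : X.Opens := ⟨(closure S)ᶜ, isClosed_closure.isOpen_compl⟩
  have hV : ∀ η : X, closure ({η} : Set ↥X) ∈ irreducibleComponents ↥X → η ∈ V := by
    intro η hη hcl
    have hηU : η ∈ U := mem_of_generic_mem_closure hη U (closure_mono (fun y hy => hy.1) hcl)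
    obtain ⟨W, hW, i₁, i₂, he⟩ := ω.presheaf.germ_eq η hηU hηU s 0 ((hs η hηU hη).trans (map_zero _).symm)
    obtain ⟨y, hyW, hyU, hy⟩ := mem_closure_iff.1 hcl W W.2 hW
    refine hy ?_
    rw [← ω.presheaf.germ_res_apply i₁ y hyW s, he, map_zero, map_zero]
  let R := Scheme.Modules.restrictFunctor V.ι
  let P := Scheme.Modules.pushforward V.ι
  let ad := Scheme.Modules.restrictAdjunction V.ι
  have hPq : Coh.IsQCoh (P.obj (R.obj ω)) := KCoh4.isQCoh_pushOpen V.ι (M1.isQCoh_restrict hω.1 V.ι)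
  have h0 : kernel.ι (ad.unit.app ω) = 0 := by
    refine hzero _ (M1.isCoh_kernel hω hPq _) _ fun η hη => ⟨V, hV η hη, ?_⟩
    show R.map (kernel.ι (ad.unit.app ω)) = 0
    calc R.map (kernel.ι (ad.unit.app ω))
        = R.map (kernel.ι (ad.unit.app ω)) ≫ R.map (ad.unit.app ω) ≫ ad.counit.app (R.obj ω) := by
          exact ((congrArg (R.map (kernel.ι (ad.unit.app ω)) ≫ ·) (ad.left_triangle_components ω)).trans (Category.comp_id _)).symm
      _ = 0 := by rw [← Category.assoc, ← Functor.map_comp, kernel.condition]; simp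
  haveI : Mono (ad.unit.app ω) := Preadditive.mono_of_kernel_zero h0
  apply Omega12.injective_app_of_mono' (ad.unit.app ω) U
  rw [map_zero]
  show ω.presheaf.map (homOfLE (V.ι.image_preimage_le U)).op s = 0
  refine M1.section_ext _ _ fun y hy => ?_
  rw [TopCat.Presheaf.germ_res_apply, map_zero]
  by_contra hne
  obtain ⟨z, hz, rfl⟩ := id hy
  exact z.2 (subset_closure ⟨_, hne⟩)

/-- Torsion-free stalks. -/
theorem torsion_eq_bot [IsNoetherian X] [IsReduced X] {ω : X.Modules} (hω : Coh.IsCoh ω)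
    (hzero : ∀ (F : X.Modules), Coh.IsCoh F → ∀ φ : F ⟶ ω,
      (∀ η : X, closure ({η} : Set ↥X) ∈ irreducibleComponents ↥X →
        ∃ U : X.Opens, η ∈ U ∧ (Scheme.Modules.restrictFunctor U.ι).map φ = 0) → φ = 0)
    (hf : ∀ η : X, closure ({η} : Set ↥X) ∈ irreducibleComponents ↥X → IsField (X.presheaf.stalk η))
    (x : X) : Submodule.torsion (X.presheaf.stalk x) (ω.presheaf.stalk x) = ⊥ := by
  rw [eq_bot_iff]
  intro m hm
  obtain ⟨⟨a, ha⟩, ham⟩ := (Submodule.mem_torsion_iff m).1 hm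
  change a • m = 0 at ham
  obtain ⟨W₁, hx₁, a, rfl⟩ := X.presheaf.exists_germ_eq a
  obtain ⟨W₂, hx₂, m, rfl⟩ := ω.presheaf.exists_germ_eq m
  have hW : x ∈ W₁ ⊓ W₂ := ⟨hx₁, hx₂⟩
  rw [← X.presheaf.germ_res_apply (homOfLE inf_le_left) x hW a,
    ← TopCat.Presheaf.germ_res_apply ω.presheaf (homOfLE inf_le_right) x hW m, ← M1.germ_smul,
    ← map_zero (ω.presheaf.germ (W₁ ⊓ W₂) x hW).hom] at ham
  obtain ⟨W₃, hx₃, i₁, i₂, he⟩ := ω.presheaf.germ_eq x hW hW _ _ ham
  obtain ⟨U, hU, hxU, hle, hgen⟩ := exists_open_generics x W₃ hx₃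
  have hU' : U ≤ W₁ ⊓ W₂ := hle.trans i₁.le
  let a' : Γ(X, U) := M1.ores hU' (M1.ores inf_le_left a)
  let m' : Γ(ω, U) := M1.mres ω hU' (M1.mres ω inf_le_right m)
  have ham' : a' • m' = 0 := by
    refine (M1.mres_smul ω hU' _ _).symm.trans ?_
    rw [← M1.mres_mres ω i₁.le hle]
    refine (congrArg (M1.mres ω hle) (he.trans (map_zero _))).trans (map_zero _)
  have haU : X.presheaf.germ U x hxU a' ∈ nonZeroDivisors (X.presheaf.stalk x) := by
    simp only [a']
    rwa [X.presheaf.germ_res_apply, X.presheaf.germ_res_apply]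
  have hm0 : m' = 0 := by
    refine eq_zero_of_generic hω hzero m' fun η hη hc => ?_
    have hne : X.presheaf.germ U η hη a' ≠ 0 := by
      intro h
      obtain ⟨r, hr, hra⟩ : ∃ r : Γ(X, U), IsUnit (X.presheaf.germ U η hη r) ∧ r * a' = 0 := by
        let := TopCat.Presheaf.algebra_section_stalk X.presheaf (⟨η, hη⟩ : U)
        haveI := hU.isLocalization_stalk ⟨η, hη⟩
        obtain ⟨⟨r, hr⟩, hra⟩ := (IsLocalization.map_eq_zero_iff (hU.primeIdealOf ⟨η, hη⟩).asIdeal.primeCompl
          (X.presheaf.stalk η) a').1 h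
        exact ⟨r, (M1.isUnit_germ_iff hU hη r).2 hr, hra⟩
      have h1 : X.presheaf.germ U x hxU r = 0 :=
        haU.1 _ (by rw [← map_mul, mul_comm a' r, hra, map_zero])
      have h2 : X.presheaf.germ U η hη r = 0 := by
        rw [← TopCat.Presheaf.germ_stalkSpecializes_apply X.presheaf hxU (hgen η hη hc) r, h1, map_zero]
      haveI := (hf η hc).nontrivial
      exact not_isUnit_zero (h2 ▸ hr)
    letI := (hf η hc).toField
    have h3 := congrArg (ω.presheaf.germ U η hη) ham'
    rw [M1.germ_smul, map_zero] at h3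
    exact (smul_eq_zero.1 h3).resolve_left hne
  rw [Submodule.mem_bot]
  have h4 := congrArg (ω.presheaf.germ U x hxU) hm0
  simp only [m', TopCat.Presheaf.germ_res_apply, map_zero] at h4
  exact h4

end Groth.Agent.ProjDual12
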