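import Groth.Agent.Lib.DimF18.Basic
import Groth.Agent.Lib.VarDim.Scheme
import Groth.Agent.Lib.DimInter18.Top
import Groth.Agent.Lib.TopDimLib.Basic

/-!
# Dimension of closed subsets avoiding the generic points
-/

set_option autoImplicit false
set_option linter.style.haveILetI false
set_option backward.isDefEq.respectTransparency false

universe u

open CategoryTheory AlgebraicGeometry TopologicalSpace

namespace Groth.Agent.ProjDual12

variable {k : Type u} [Field k] {X : Scheme.{u}} (f : X ⟶ Spec (CommRingCat.of k)) [LocallyOfFiniteType f]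

theorem dim_le_of_forall_sdim {Y : Set X} (hY : IsClosed Y) {d : ℕ} (h : ∀ y ∈ Y, VarDim.sdim f y ≤ d) :
    topologicalKrullDim ↥Y ≤ (d : WithBot ℕ∞) := by
  rw [TopDimLib.dim_eq_iSup_components]
  refine iSup₂_le fun Z hZ => ?_
  rw [DimInter18.dim_subset]
  have hc : IsClosed (Subtype.val '' Z) :=
    hY.isClosedEmbedding_subtypeVal.isClosedMap _ (isClosed_of_mem_irreducibleComponents Z hZ)
  have hi : IsIrreducible (Subtype.val '' Z) := hZ.1.image _ continuous_subtype_val.continuousOn
  rw [VarDim.dim_irreducible_isClosed f hc hi]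
  have hg : hi.genericPoint ∈ Subtype.val '' Z := (hi.isGenericPoint_genericPoint hc).mem
  obtain ⟨z, -, hz⟩ := hg
  exact_mod_cast h _ (hz ▸ z.2)

/-- A closed set without generic points is smaller, in pure dimension. -/
theorem dim_lt_of_avoid_generic {r : ℕ}
    (heq : ∀ Z : Set ↥X, Z ∈ irreducibleComponents ↥X → topologicalKrullDim ↥Z = (r : WithBot ℕ∞))
    {Y : Set X} (hY : IsClosed Y) (h : ∀ x : X, closure ({x} : Set ↥X) ∈ irreducibleComponents ↥X → x ∉ Y) :
    ∀ y ∈ Y, VarDim.sdim f y < r := by
  intro y hy
  have hC := irreducibleComponent_mem_irreducibleComponents y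
  have hCc : IsClosed (irreducibleComponent y) := isClosed_irreducibleComponent
  have hg : hC.1.genericPoint ⤳ y := by
    rw [specializes_iff_mem_closure, hC.1.closure_genericPoint hCc]
    exact mem_irreducibleComponent
  have h2 : VarDim.sdim f hC.1.genericPoint = r := by
    have := (VarDim.dim_irreducible_isClosed f hCc hC.1).symm.trans (heq _ hC)
    exact_mod_cast this
  refine h2 ▸ VarDim.sdim_lt_of_specializes f hg fun he => ?_
  exact h hC.1.genericPoint (by rw [hC.1.closure_genericPoint hCc]; exact hC) (he.symm ▸ hy)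

end Groth.Agent.ProjDual12
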