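import Groth.Agent.Lib.ProjDual12.GenRank
import Groth.Agent.Lib.ProjDual12.GenDim
import Groth.Agent.Lib.ProjDual12.TorsionFree
import Groth.Agent.Lib.ProjDual12.Dualizing
import Groth.Agent.Lib.CurveCoh17.Pairing
import Groth.Agent.Lib.CohFound.ProperFinite
import Groth.Agent.S11915
import Groth.Prelude.Def_KLin
import Mathlib.LinearAlgebra.Dual.Lemmas
import Mathlib.RingTheory.IntegralClosure.Algebra.Basic

/-!
# The trace of an integral variety with algebraically closed constants
-/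

set_option autoImplicit false
set_option linter.style.haveILetI false
set_option linter.unusedSectionVars false
set_option backward.isDefEq.respectTransparency false
set_option backward.isDefEq.respectTransparency.types false

universe u

open CategoryTheory CategoryTheory.Limits AlgebraicGeometry TopologicalSpace Opposite Module

noncomputable section

namespace Groth.Agent.ProjDual12

open Groth.Agent Groth.Agent.CurveCoh17

/-- The constant functions in the function field. -/
abbrev constHom (k : Type u) [Field k] (X : Scheme.{u}) [X.Over (Spec (CommRingCat.of k))] [IsIntegral X] :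
    k →+* (X.functionField : Type u) :=
  (X.presheaf.germ ⊤ (genericPoint X) trivial).hom.comp (Coh.toGlobal (X ↘ Spec (CommRingCat.of k)))

theorem closure_genericPoint_mem (X : Scheme.{u}) [IsIntegral X] :
    closure ({genericPoint X} : Set ↥X) ∈ irreducibleComponents ↥X := by
  rw [(genericPoint_spec X).def]
  exact ⟨(irreducibleSpace_def ↥X).1 inferInstance, fun _ _ _ => Set.subset_univ _⟩

theorem eq_genericPoint_of_component {X : Scheme.{u}} [IsIntegral X] {η : X}
    (h : closure ({η} : Set ↥X) ∈ irreducibleComponents ↥X) : η = genericPoint X := by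
  have h1 : closure ({η} : Set ↥X) = Set.univ :=
    Set.univ_subset_iff.1 (h.2 ((irreducibleSpace_def ↥X).1 inferInstance) (Set.subset_univ _))
  have h2 : η ⤳ genericPoint X := specializes_iff_mem_closure.2 (h1 ▸ Set.mem_univ _)
  exact (h2.antisymm (genericPoint_specializes η)).eq

theorem le_of_dim {k : Type u} [Field k] {N : ℕ} {X : Scheme.{u}} (ι : X ⟶ CohB1.ProjSpace N k) [IsClosedImmersion ι] {r : ℕ}
    {x : X} (hx : topologicalKrullDim ↥(closure ({x} : Set ↥X)) = (r : WithBot ℕ∞)) : r ≤ N := by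
  haveI := CMReg18.isProper_projSpace k (n := N)
  have h := ringKrullDim_stalk_add_sdim (ι.base x)
  rw [← VarDim.sdim_comp_of_surjective (CohB1.ProjSpace.toSpec N k) ι x] at h
  rw [VarDim.dim_closure_singleton (ι ≫ CohB1.ProjSpace.toSpec N k)] at hx
  rw [hx] at h
  have h0 : (r : WithBot ℕ∞) ≤ (N : WithBot ℕ∞) := h ▸ le_add_of_nonneg_left ringKrullDim_nonneg_of_nontrivial
  exact_mod_cast h0

/-- Dualizing pairs are unique. -/
theorem nonempty_iso_of_dualizing {k : Type u} [Field k] {X : Scheme.{u}} [X.Over (Spec (CommRingCat.of k))] {r : ℕ}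
    {ω ω' : X.Modules} (hω : Coh.IsCoh ω) (hω' : Coh.IsCoh ω') (t : Coh.HH X ω r →ₗ[k] k) (t' : Coh.HH X ω' r →ₗ[k] k)
    (hd : ∀ F : X.Modules, Coh.IsCoh F → ∀ ψ : Coh.HH X F r →ₗ[k] k,
      ∃! φ : F ⟶ ω, ∀ x : Coh.HH X F r, ψ x = t (hmap₀ φ r x))
    (hd' : ∀ F : X.Modules, Coh.IsCoh F → ∀ ψ : Coh.HH X F r →ₗ[k] k,
      ∃! φ : F ⟶ ω', ∀ x : Coh.HH X F r, ψ x = t' (hmap₀ φ r x)) : Nonempty (ω ≅ ω') := by
  obtain ⟨a, ha, -⟩ := hd' ω hω t
  obtain ⟨b, hb, -⟩ := hd ω' hω' t'
  have hid : ∀ (M : X.Modules) (x : Coh.HH X M r), hmap₀ (𝟙 M) r x = x := fun M x => hmap_id (A := k) M r x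
  refine ⟨⟨a, b, (hd ω hω t).unique (fun x => ?_) fun x => by rw [hid],
    (hd' ω' hω' t').unique (fun x => ?_) fun x => by rw [hid]⟩⟩
  · rw [show hmap₀ (a ≫ b) r x = hmap₀ b r (hmap₀ a r x) from (Formal.HHmap_comp a b r x).symm, ← hb, ha]
  · rw [show hmap₀ (b ≫ a) r x = hmap₀ a r (hmap₀ b r x) from (Formal.HHmap_comp b a r x).symm, ← ha, hb]

theorem finrank_stalk_iso {X : Scheme.{u}} {M M' : X.Modules} (i : M ≅ M') {x : X} :
    Module.finrank (X.presheaf.stalk x) (M.presheaf.stalk x) = Module.finrank (X.presheaf.stalk x) (M'.presheaf.stalk x) :=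
  LinearEquiv.finrank_eq (LinearEquiv.ofLinear (stalkLin i.hom x) (stalkLin i.inv x)
    (LinearMap.ext fun a => by
      show stalkLin i.hom x (stalkLin i.inv x a) = a
      rw [← CurveCoh17.stalkLin_comp, i.inv_hom_id, stalkLin_apply, CategoryTheory.Functor.map_id]; rfl)
    (LinearMap.ext fun a => by
      show stalkLin i.inv x (stalkLin i.hom x a) = a
      rw [← CurveCoh17.stalkLin_comp, i.hom_inv_id, stalkLin_apply, CategoryTheory.Functor.map_id]; rfl))

/-- The trace is bijective when the constants are algebraically closed. -/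
theorem trace_bijective {k : Type u} [Field k] {X : Scheme.{u}} [X.Over (Spec (CommRingCat.of k))]
    [IsProper (X ↘ Spec (CommRingCat.of k))] [IsIntegral X] {r : ℕ} {ω : X.Modules} (hω : Coh.IsCoh ω)
    (t : Coh.HH X ω r →ₗ[k] k)
    (hd : ∀ ψ : Coh.HH X ω r →ₗ[k] k, ∃! φ : ω ⟶ ω, ∀ x : Coh.HH X ω r, ψ x = t (hmap₀ φ r x))
    (hrk : Module.finrank (X.presheaf.stalk (genericPoint X)) (ω.presheaf.stalk (genericPoint X)) = 1)
    (hzero : ∀ (F : X.Modules), Coh.IsCoh F → ∀ φ : F ⟶ ω,
      (∀ η : X, closure ({η} : Set ↥X) ∈ irreducibleComponents ↥X →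
        ∃ U : X.Opens, η ∈ U ∧ (Scheme.Modules.restrictFunctor U.ι).map φ = 0) → φ = 0)
    (halg : ∀ a, (constHom k X).IsIntegralElem a → a ∈ Set.range (constHom k X)) :
    Function.Bijective t := by
  haveI : IsNoetherian X := CohFound.isNoetherian_of_isProper (X ↘ Spec (CommRingCat.of k))
  haveI : Module.Finite k (Coh.HH X ω r) := CohFound.finite_HH_of_isProper ω hω r
  let η := genericPoint X
  letI : Algebra k (X.functionField : Type u) := (constHom k X).toAlgebra
  obtain ⟨e, he0, he⟩ := finrank_eq_one_iff'.1 (show Module.finrank (X.functionField : Type u) (ω.presheaf.stalk η) = 1 from hrk)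
  choose Φ hΦ hΦu using hd
  have hc : ∀ φ : ω ⟶ ω, ∃ c : (X.functionField : Type u), ∀ v, stalkLin φ η v = c • v := by
    intro φ
    obtain ⟨c, hc⟩ := he (stalkLin φ η e)
    refine ⟨c, fun v => ?_⟩
    obtain ⟨d, rfl⟩ := he v
    rw [map_smul, ← hc, smul_comm]
  choose c hc using hc
  have hcu : ∀ (φ : ω ⟶ ω) (a : (X.functionField : Type u)), stalkLin φ η e = a • e → c φ = a := fun φ a h =>
    smul_left_injective _ he0 ((hc φ e).symm.trans h)
  have hinj : ∀ φ φ' : ω ⟶ ω, c φ = c φ' → φ = φ' := by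
    intro φ φ' h
    ext W s
    rw [← sub_eq_zero]
    refine eq_zero_of_generic hω hzero _ fun z hz hzc => ?_
    obtain rfl := eq_genericPoint_of_component hzc
    rw [map_sub, sub_eq_zero, ← M1.germ_naturality φ W _ hz s, ← M1.germ_naturality φ' W _ hz s]
    show stalkLin φ η (ω.presheaf.germ W η hz s) = stalkLin φ' η (ω.presheaf.germ W η hz s)
    rw [hc, hc, h]
  have hadd : ∀ φ φ' : ω ⟶ ω, c (φ + φ') = c φ + c φ' := fun φ φ' => hcu _ _ (by
    rw [add_smul, ← hc, ← hc, stalkLin_apply, Functor.map_add]; rfl)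
  have hscal : ∀ a : k, c (Formal.smulMod k ω a) = constHom k X a := fun a => hcu _ _ (by
    obtain ⟨W, hW, s, hs⟩ := ω.presheaf.exists_germ_eq e
    rw [← hs, stalkLin_apply, M1.germ_naturality, Formal.smulMod, KLin.smulModΓ_app_apply, M1.germ_smul]
    congr 1
    exact X.presheaf.germ_res_apply (homOfLE le_top) η hW _)
  have hcomp : ∀ φ φ' : ω ⟶ ω, c (φ ≫ φ') = c φ * c φ' := fun φ φ' => hcu _ _ (by
    rw [CurveCoh17.stalkLin_comp, hc, hc, smul_smul, mul_comm])
  have hone : c (𝟙 ω) = 1 := hcu _ _ (by rw [one_smul, stalkLin_apply, CategoryTheory.Functor.map_id]; rfl)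
  have hsm : ∀ (a : k) (φ : ω ⟶ ω) (x : Coh.HH X ω r),
      hmap₀ (φ ≫ Formal.smulMod k ω a) r x = a • hmap₀ φ r x := fun a φ x =>
    (Formal.HHmap_comp φ (Formal.smulMod k ω a) r x).symm.trans (hmap₀_smulModΓ _ _ r _)
  let Θ : Dual k (Coh.HH X ω r) →ₗ[k] (X.functionField : Type u) :=
    { toFun := fun ψ => c (Φ ψ)
      map_add' := fun ψ ψ' => by
        rw [← hadd]
        refine congrArg c (hΦu _ _ fun x => ?_).symm
        rw [hmap₀_add, map_add, LinearMap.add_apply, hΦ ψ x, hΦ ψ' x]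
      map_smul' := fun a ψ => by
        show c (Φ (a • ψ)) = constHom k X a * c (Φ ψ)
        rw [← hscal, mul_comm, ← hcomp]
        refine congrArg c (hΦu _ _ fun x => ?_).symm
        rw [hsm, map_smul, LinearMap.smul_apply, hΦ ψ x] }
  let S : Subalgebra k (X.functionField : Type u) :=
    { carrier := Set.range Θ
      mul_mem' := by
        rintro _ _ ⟨ψ, rfl⟩ ⟨ψ', rfl⟩
        refine ⟨t.comp ({ hmap₀ (Φ ψ ≫ Φ ψ') r with
          map_smul' := fun a x => hmap₀_smul _ r _ x } : Coh.HH X ω r →ₗ[k] Coh.HH X ω r), ?_⟩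
        exact (congrArg c (hΦu _ _ fun x => rfl).symm).trans (hcomp _ _)
      one_mem' := ⟨t, (congrArg c (hΦu t (𝟙 ω) fun x => by
        rw [show hmap₀ (𝟙 ω) r x = x from hmap_id (A := k) ω r x]).symm).trans hone⟩
      zero_mem' := ⟨0, map_zero Θ⟩
      add_mem' := by rintro _ _ ⟨a, rfl⟩ ⟨b, rfl⟩; exact ⟨a + b, map_add Θ a b⟩
      algebraMap_mem' := fun a => ⟨a • t, by
        show c (Φ (a • t)) = constHom k X a
        rw [← hscal]
        refine congrArg c (hΦu _ _ fun x => ?_).symm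
        rw [← Category.id_comp (Formal.smulMod k ω a), hsm, map_smul, LinearMap.smul_apply,
          show hmap₀ (𝟙 ω) r x = x from hmap_id (A := k) ω r x]⟩ }
  have hS : S.toSubmodule.FG := by
    have h : S.toSubmodule = LinearMap.range Θ := SetLike.coe_injective rfl
    rw [h]
    exact Module.Finite.iff_fg.1 inferInstance
  have hall : ∀ ψ : Dual k (Coh.HH X ω r), ∃ a : k, ψ = a • t := fun ψ => by
    obtain ⟨a, ha⟩ := halg _ (IsIntegral.of_mem_of_fg S hS (Θ ψ) ⟨ψ, rfl⟩)
    refine ⟨a, LinearMap.ext fun x => ?_⟩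
    rw [hΦ ψ x, hinj (Φ ψ) (Formal.smulMod k ω a) ((hscal a).trans ha).symm,
      ← Category.id_comp (Formal.smulMod k ω a), hsm, map_smul, LinearMap.smul_apply,
      show hmap₀ (𝟙 ω) r x = x from hmap_id (A := k) ω r x]
  have ht : t ≠ 0 := by
    intro h
    have h1 : (𝟙 ω) = 0 := (hΦu 0 _ fun x => by simp [h]).trans (hΦu 0 _ fun x => by simp [h]).symm
    have h2 : e = 0 := by
      have h3 : stalkLin (𝟙 ω) η e = e := by rw [hc, hone, one_smul]
      rw [← h3, h1, stalkLin_apply, Functor.map_zero]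
      rfl
    exact he0 h2
  refine ⟨(injective_iff_map_eq_zero _).2 fun x hx => ?_, LinearMap.surjective_of_ne_zero ht⟩
  refine (Module.forall_dual_apply_eq_zero_iff k x).1 fun ψ => ?_
  obtain ⟨a, rfl⟩ := hall ψ
  rw [LinearMap.smul_apply, hx, smul_zero]

end Groth.Agent.ProjDual12
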