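import Groth.Agent.Lib.CMReg18.Resolution
import Groth.Agent.Lib.EnriquesSeveri11.HomBij
import Groth.Agent.Lib.VB17.Duality
import Groth.Agent.Lib.CurveCoh17.Pairing
import Groth.Agent.Lib.NumPoly18.HodgeIndex
import Groth.Agent.Lib.TopDimLib.Basic
import Groth.Agent.Lib.RegExt.P1
import Groth.Agent.Lib.CohFound.ModQuot
import Groth.Agent.S0843
import Groth.Agent.S0845

/-!
# Top degree duality on projective space

`O(-n-1)` represents `F ↦ H^n(P^n, F)^*` on coherent modules: a nonzero map `O(a) → O(-n-1)` has cokernel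
supported in dimension `< n`, so is surjective on `H^n`; both sides have the same dimension; coherent modules are
quotients of sums of such twists.
-/

set_option autoImplicit false
set_option linter.style.haveILetI false
set_option backward.isDefEq.respectTransparency false

universe u

open CategoryTheory CategoryTheory.Limits AlgebraicGeometry TopologicalSpace Opposite

noncomputable section

namespace Groth.Agent.ProjDual12

open Groth.Agent Groth.Agent.CurveCoh17

section general

variable {X : Scheme.{u}} (k : Type u) [Field k] [X.Over (Spec (CommRingCat.of k))] {D H W : X.Modules}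

/-- The morphism `H ⟶ W` given by a section of `D`, for `D ⊗ H ≅ W`. -/
def secMor (e : CohB1.tensorMod D H ≅ W) (z : Coh.HH X D 0) : H ⟶ W :=
  (M2.tensorLUnit H).inv ≫ M2.tensorMap (M1.secHom (hh0 D z)) (𝟙 H) ≫ e.hom

/-- `z ↦ t ∘ H^n (secMor z)`. -/
def secPair (e : CohB1.tensorMod D H ≅ W) (n : ℕ) (t : Coh.HH X W n →ₗ[k] k) :
    Coh.HH X D 0 →ₗ[k] Module.Dual k (Coh.HH X H n) :=
  (LinearMap.lcomp k k (hmap k (M2.tensorLUnit H).inv n)).comp
    ((LinearMap.compRight k (t.comp (hmap k e.hom n))).comp (mulPair k D H n))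

theorem secPair_apply (e : CohB1.tensorMod D H ≅ W) (n : ℕ) (t : Coh.HH X W n →ₗ[k] k) (z : Coh.HH X D 0) :
    secPair k e n t z = t.comp (hmap k (secMor e z) n) := by
  refine LinearMap.ext fun x => ?_
  rw [LinearMap.comp_apply, secMor, hmap_comp k, hmap_comp k]
  rfl

theorem secMor_zero (e : CohB1.tensorMod D H ≅ W) : secMor e (0 : Coh.HH X D 0) = 0 := by
  rw [secMor, map_zero, show M1.secHom (0 : Γ(D, (⊤ : X.Opens))) = 0 from
      M1.unit_hom_ext ((M1.secHom_app_one _).trans (by simp)),
    show M2.tensorMap (0 : _ ⟶ D) (𝟙 H) = 0 from (M2.tensorR H).map_zero _ _, zero_comp, comp_zero]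

theorem secPair_injective [IsIntegral X] (e : CohB1.tensorMod D H ≅ W) (hD : PicF.IsInvertible D)
    (hH : PicF.IsInvertible H) (n : ℕ) (t : Coh.HH X W n ≃ₗ[k] k)
    (hsurj : ∀ φ : H ⟶ W, Mono φ → Function.Surjective (hmap k φ n)) :
    Function.Injective (secPair k e n t.toLinearMap) := by
  rw [injective_iff_map_eq_zero]
  intro z hz
  by_contra hne
  haveI : Mono (M1.secHom (hh0 D z)) := (M1.mono_iff_stalk _).2 (injective_stalk_secHom
    ((M2.isInvertible_iff_isFinLocFreeOfRank_one _).1 hD) (hh0_ne_zero hne))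
  haveI := VB17.mono_tensorMap (M1.secHom (hh0 D z)) hH
  haveI : Mono (secMor e z) := mono_comp _ _
  obtain ⟨x, hx⟩ := hsurj (secMor e z) inferInstance (t.symm 1)
  have h1 := LinearMap.congr_fun ((secPair_apply k e n t.toLinearMap z).symm.trans hz) x
  rw [LinearMap.zero_apply, LinearMap.comp_apply, hx] at h1
  simp at h1

/-- Injectivity of the pairing and equal dimensions give representability. -/
theorem bijective_of_secPair (e : CohB1.tensorMod D H ≅ W) (n : ℕ) (t : Coh.HH X W n →ₗ[k] k)
    (hinj : Function.Injective (secPair k e n t))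
    [Module.Finite k (Coh.HH X D 0)] [Module.Finite k (Coh.HH X H n)]
    (hd : Module.finrank k (Coh.HH X D 0) = Module.finrank k (Coh.HH X H n))
    (hsec : ∀ φ : H ⟶ W, ∃ z, secMor e z = φ) :
    Function.Bijective fun φ : H ⟶ W => t.comp (hmap k φ n) := by
  have hs := (LinearMap.injective_iff_surjective_of_finrank_eq_finrank
    (hd.trans Subspace.dual_finrank_eq.symm)).1 hinj
  refine ⟨fun φ φ' h => ?_, fun ψ => ?_⟩
  · obtain ⟨z, rfl⟩ := hsec φ
    obtain ⟨z', rfl⟩ := hsec φ'
    rw [hinj ((secPair_apply k e n t z).trans (h.trans (secPair_apply k e n t z').symm))]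
  · obtain ⟨z, rfl⟩ := hs ψ
    exact ⟨_, (secPair_apply k e n t z).symm⟩

end general

variable (k : Type u) [Field k] (n : ℕ)

local notation "P" => CohB1.ProjSpace n k

/-- The dualizing twist. -/
abbrev om : (CohB1.ProjSpace n k).Modules := _root_.Twist.twistProjSpace n k (-((n : ℤ) + 1))

/-- The twists `O(-(n+1+m))`. -/
abbrev tneg (m : ℕ) : (CohB1.ProjSpace n k).Modules := _root_.Twist.twistProjSpace n k (-((n : ℤ) + 1 + m))

/-- The twists `O(m)`. -/
abbrev tpos (m : ℕ) : (CohB1.ProjSpace n k).Modules := _root_.Twist.twistProjSpace n k (m : ℤ)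

theorem finrank_h_om : Module.finrank k (Coh.HH P (om k n) n) = 1 := by
  obtain ⟨e⟩ := S0845.result k n 0
  rw [show om k n = _root_.Twist.twistProjSpace n k (-((n : ℤ) + 1 + ((0 : ℕ) : ℤ))) by
    simp only [om, Nat.cast_zero, add_zero]]
  rw [e.finrank_eq, MvPolynomial.homogeneousSubmodule_zero, Submodule.one_eq_span]
  exact finrank_span_singleton one_ne_zero

theorem finite_h {F : (CohB1.ProjSpace n k).Modules} (hF : Coh.IsCoh F) (i : ℕ) :
    Module.Finite k (Coh.HH P F i) := by
  haveI := CMReg18.isProper_projSpace k (n := n)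
  exact CohFound.finite_HH_of_isProper F hF i

/-- The trace. -/
def trace : Coh.HH P (om k n) n ≃ₗ[k] k :=
  haveI : Module.Finite k (Coh.HH P (om k n) n) := Module.finite_of_finrank_eq_succ (finrank_h_om k n)
  LinearEquiv.ofFinrankEq _ _ ((finrank_h_om k n).trans (Module.finrank_self k).symm)

variable {k n}

/-- Composition of `H^n` of a morphism to the dualizing twist with the trace. -/
def dualOf {F : (CohB1.ProjSpace n k).Modules} (φ : F ⟶ om k n) : Module.Dual k (Coh.HH P F n) :=
  (trace k n).toLinearMap.comp (hmap k φ n)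

theorem dualOf_comp {F G : (CohB1.ProjSpace n k).Modules} (g : F ⟶ G) (φ : G ⟶ om k n) :
    dualOf (g ≫ φ) = (dualOf φ).comp (hmap k g n) :=
  LinearMap.ext fun x => congrArg (trace k n) (hmap_comp k g φ n x)

theorem dualOf_zero {F : (CohB1.ProjSpace n k).Modules} : dualOf (0 : F ⟶ om k n) = 0 :=
  LinearMap.ext fun x => (congrArg (trace k n) (hmap_zero k n x)).trans (map_zero _)

theorem dualOf_add {F : (CohB1.ProjSpace n k).Modules} (φ ψ : F ⟶ om k n) :
    dualOf (φ + ψ) = dualOf φ + dualOf ψ :=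
  LinearMap.ext fun x => (congrArg (trace k n) (CMReg18.hmap_add k φ ψ n x)).trans (map_add _ _ _)

/-- The representability property for one module. -/
def Rep (F : (CohB1.ProjSpace n k).Modules) : Prop :=
  Function.Bijective (dualOf : (F ⟶ om k n) → Module.Dual k (Coh.HH P F n))

theorem le_of_lt_succ_nat {d : WithBot ℕ∞} {j : ℕ} (h : d < ((j + 1 : ℕ) : WithBot ℕ∞)) :
    d ≤ (j : WithBot ℕ∞) := by
  induction d using WithBot.recBotCoe with
  | bot => exact bot_le
  | coe e =>
    have h' : e < ((j + 1 : ℕ) : ℕ∞) := by exact_mod_cast h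
    have : e ≤ (j : ℕ∞) := Order.le_of_lt_add_one (by push_cast at h'; exact h')
    exact_mod_cast this

theorem injective_dualOf_of_forall {F : (CohB1.ProjSpace n k).Modules}
    (h : ∀ φ : F ⟶ om k n, dualOf φ = 0 → φ = 0) :
    Function.Injective (dualOf : (F ⟶ om k n) → Module.Dual k (Coh.HH P F n)) :=
  (injective_iff_map_eq_zero (AddMonoidHom.mk' dualOf dualOf_add)).2 h

/-- A monomorphism between invertible modules is surjective on `H^n`. -/
theorem surjective_hmap_of_mono {A B : (CohB1.ProjSpace n k).Modules} (hA : PicF.IsInvertible A)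
    (hB : PicF.IsInvertible B) (φ : A ⟶ B) [Mono φ] : Function.Surjective (hmap k φ n) := by
  haveI : IsIntegral P := RegExt.isIntegral_projSpace n k
  haveI := CMReg18.isProper_projSpace k (n := n)
  haveI : IsLocallyNoetherian P := CohFound.ProjNum.isLocallyNoetherian_projSpace n k
  have hcA := Snapper.isCoh_of_isInvertible hA
  have hcB := Snapper.isCoh_of_isInvertible hB
  let S : ShortComplex (CohB1.ProjSpace n k).Modules := ShortComplex.mk φ (cokernel.π φ) (cokernel.condition φ)
  have hS : S.ShortExact := { exact := ShortComplex.exact_of_g_is_cokernel _ (cokernelIsCokernel _) }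
  have hC : Coh.IsCoh (cokernel φ) := M1.isCoh_cokernel hcA.1 hcB φ
  -- the generic point is not in the support
  have hη : genericPoint P ∉ CohB1.support (cokernel φ) := by
    rw [CohFound.notMem_support_cokernel_iff]
    obtain ⟨eA⟩ := nonempty_stalk_equiv ((M2.isInvertible_iff_isFinLocFreeOfRank_one A).1 hA) (genericPoint P)
    obtain ⟨eB⟩ := nonempty_stalk_equiv ((M2.isInvertible_iff_isFinLocFreeOfRank_one B).1 hB) (genericPoint P)
    let g : (Fin 1 → (CohB1.ProjSpace n k).functionField) →ₗ[(CohB1.ProjSpace n k).functionField]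
        (Fin 1 → (CohB1.ProjSpace n k).functionField) :=
      eB.toLinearMap ∘ₗ CohFound.stL φ (genericPoint P) ∘ₗ eA.symm.toLinearMap
    have hg : Function.Injective g :=
      eB.injective.comp ((CohFound.stL_injective_of_mono φ _).comp eA.symm.injective)
    have hs : Function.Surjective g := LinearMap.injective_iff_surjective.1 hg
    intro y
    obtain ⟨v, hv⟩ := hs (eB y)
    exact ⟨eA.symm v, eB.injective hv⟩
  have hsub : Subsingleton (Coh.HH P (cokernel φ) n) := by
    have hcl : IsClosed (CohB1.support (cokernel φ)) := M1.isClosed_support hC.2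
    have hne : CohB1.support (cokernel φ) ≠ Set.univ := fun h => hη (h ▸ Set.mem_univ _)
    have hdim := S10829.result k n
    have hlt := TopDimLib.dim_lt_of_closed_ssubset (X := (CohB1.ProjSpace n k))
      (by rw [hdim]; exact WithBot.coe_injective.ne (ENat.natCast_ne_top n)) _ hcl hne
    rw [hdim] at hlt
    by_cases he : CohB1.support (cokernel φ) = ∅
    · have hz : IsZero (cokernel φ) := by
        rw [IsZero.iff_id_eq_zero]
        refine Scheme.Modules.hom_ext _ _ fun U => ?_
        ext s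
        show s = 0
        refine M1.section_ext _ _ fun x hx => ?_
        rw [map_zero]
        exact (M1.notMem_support_iff _ x).1 (by rw [he]; exact Set.notMem_empty x) _
      refine subsingleton_of_forall_eq 0 fun x => ?_
      rw [← hmap_id k (cokernel φ) n x, hz.eq_of_src (𝟙 _) 0, hmap_zero]
    · obtain ⟨x, hx⟩ := Set.nonempty_iff_ne_empty.2 he
      haveI : Nonempty (CohB1.support (cokernel φ)) := ⟨⟨x, hx⟩⟩
      obtain _ | m := n
      · exact absurd hlt (not_lt.2 TopDimLib.zero_le_dim)
      · refine NumPoly18.subsingleton_HH_of_support (k := k) hC (d := m) ?_ (Nat.lt_succ_self m)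
        exact le_of_lt_succ_nat hlt
  intro y
  exact (exact_hmap_hmap k hS n y).1 (hsub.elim _ _)

section twist

variable (k n) (m : ℕ)

/-- `O(m) ⊗ O(-(n+1+m)) ≅ O(-(n+1))`. -/
def mulIso : CohB1.tensorMod (tpos k n m) (tneg k n m) ≅ om k n :=
  (CMReg18.projData k n).add _ _ ≪≫ eqToIso (congrArg (_root_.Twist.twistProjSpace n k) (by ring))

variable {k n m}

/-- The morphism given by a section of `O(m)`. -/
def homOfSec (z : Coh.HH P (tpos k n m) 0) : tneg k n m ⟶ om k n := secMor (mulIso k n m) z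

theorem surjective_homOfSec (φ : tneg k n m ⟶ om k n) : ∃ z, homOfSec z = φ := by
  let D := CMReg18.projData k n
  let e : CohB1.tensorMod (tneg k n m) (D.O ((n : ℤ) + 1 + m)) ≅ Coh.structureModule P :=
    D.add _ _ ≪≫ eqToIso (congrArg D.O (neg_add_cancel _)) ≪≫ D.zero
  obtain ⟨χ, hχ⟩ := ES11.tensorR_map_surjective (A := Coh.structureModule P) (B := tpos k n m) e
    ((M2.tensorLUnit (tneg k n m)).hom ≫ φ ≫ (mulIso k n m).inv)
  refine ⟨(hh0 _).symm (χ.app ⊤ (M1.one ⊤)), ?_⟩
  rw [homOfSec, secMor, AddEquiv.apply_symm_apply,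
    show M1.secHom (χ.app ⊤ (M1.one ⊤)) = χ from M1.unit_hom_ext (M1.secHom_app_one _), hχ]
  simp

theorem rep_tneg : Rep (tneg k n m) := by
  haveI : IsIntegral P := RegExt.isIntegral_projSpace n k
  have hpos := Twist.isInvertible_twistProjSpace n k (m : ℤ)
  have hneg := Twist.isInvertible_twistProjSpace n k (-((n : ℤ) + 1 + m))
  have hom' := Twist.isInvertible_twistProjSpace n k (-((n : ℤ) + 1))
  haveI := finite_h k n (Snapper.isCoh_of_isInvertible hneg) n
  haveI := finite_h k n (Snapper.isCoh_of_isInvertible hpos) 0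
  have hd : Module.finrank k (Coh.HH P (tpos k n m) 0) = Module.finrank k (Coh.HH P (tneg k n m) n) := by
    obtain ⟨e₀⟩ := S0843.result k n m
    obtain ⟨e₁⟩ := S0845.result k n m
    rw [e₀.finrank_eq, e₁.finrank_eq]
  exact bijective_of_secPair k (mulIso k n m) n (trace k n).toLinearMap
    (secPair_injective k (mulIso k n m) hpos hneg n (trace k n)
      fun φ hφ => @surjective_hmap_of_mono k _ n _ _ hneg hom' φ hφ)
    hd surjective_homOfSec

theorem rep_sum (b : ℕ) : Rep (∐ fun _ : Fin b => tneg k n m) := by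
  classical
  haveI : HasFiniteBiproducts (CohB1.ProjSpace n k).Modules := Abelian.hasFiniteBiproducts
  let f : Fin b → (CohB1.ProjSpace n k).Modules := fun _ => tneg k n m
  let e := biproduct.isoCoproduct f
  refine ⟨injective_dualOf_of_forall fun φ hφ => Sigma.hom_ext _ _ fun j => ?_, fun ψ => ?_⟩
  · rw [comp_zero]
    refine (rep_tneg (k := k)).1 ?_
    rw [dualOf_comp, hφ, LinearMap.zero_comp, dualOf_zero]
  · choose φ hφ using fun j : Fin b => (rep_tneg (k := k)).2 (ψ.comp (hmap k (Sigma.ι f j) n))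
    refine ⟨Sigma.desc φ, LinearMap.ext fun x => ?_⟩
    obtain ⟨y, rfl⟩ : ∃ y, hmap k e.hom n y = x := (hequiv k e n).surjective x
    rw [← CMReg18.biproduct_tot k f n y, map_sum, map_sum, map_sum]
    refine Finset.sum_congr rfl fun j _ => ?_
    rw [← hmap_comp k (biproduct.ι f j) e.hom, show biproduct.ι f j ≫ e.hom = Sigma.ι f j by simp [e]]
    have h := LinearMap.congr_fun (hφ j) (hmap k (biproduct.π f j) n y)
    rw [LinearMap.comp_apply] at h
    rw [← h, ← LinearMap.comp_apply, ← dualOf_comp, Sigma.ι_desc]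

theorem isCoh_sum (b : ℕ) : Coh.IsCoh (∐ fun _ : Fin b => tneg k n m) :=
  CohFound.isCoh_of_iso (M2.freeModTensorIso _ b _) (CurveCoh17.isCoh_tensor
    (CurveCoh17.isCoh_of_ofRank (M2.isFinLocFreeOfRank_freeMod _ b))
    (Snapper.isCoh_of_isInvertible (Twist.isInvertible_twistProjSpace n k _)))

end twist

/-- Coherent modules are quotients of sums of one sufficiently negative twist. -/
theorem exists_epi_sum {F : (CohB1.ProjSpace n k).Modules} (hF : Coh.IsCoh F) (m₀ : ℕ) :
    ∃ (b m : ℕ) (π : (∐ fun _ : Fin b => tneg k n m) ⟶ F), m₀ ≤ m ∧ Epi π := by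
  haveI := CMReg18.isProper_projSpace k (n := n)
  let D := CMReg18.projData k n
  obtain ⟨N, hN⟩ := D.exists_gg_large (CMReg18.isAmple_twistOne k) hF
  obtain ⟨b, π, hπ, -⟩ := D.exists_presentation (k := k) hF ((n : ℤ) + 1 + ((N.toNat + m₀ : ℕ) : ℤ))
    (hN _ (by push_cast; omega))
  exact ⟨b, N.toNat + m₀, π, Nat.le_add_left _ _, hπ⟩

/-- `O(-n-1)` represents the dual of top cohomology. -/
theorem rep {F : (CohB1.ProjSpace n k).Modules} (hF : Coh.IsCoh F) : Rep F := by
  haveI := CMReg18.isProper_projSpace k (n := n)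
  haveI : IsLocallyNoetherian P := CohFound.ProjNum.isLocallyNoetherian_projSpace n k
  have inj : ∀ {G : (CohB1.ProjSpace n k).Modules}, Coh.IsCoh G →
      ∀ φ : G ⟶ om k n, dualOf φ = 0 → φ = 0 := by
    intro G hG φ hφ
    obtain ⟨b, m, π, -, hπ⟩ := exists_epi_sum hG 0
    rw [← cancel_epi π, comp_zero]
    refine (rep_sum (k := k) b).1 ?_
    rw [dualOf_comp, hφ, LinearMap.zero_comp, dualOf_zero]
  refine ⟨injective_dualOf_of_forall (inj hF), fun ψ => ?_⟩
  obtain ⟨b, m, π, -, hπ⟩ := exists_epi_sum hF 0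
  have hK : Coh.IsCoh (kernel π) := CurveCoh17.isCoh_kernel (isCoh_sum b) hF.1 π
  obtain ⟨φ₀, hφ₀⟩ := (rep_sum (k := k) b).2 (ψ.comp (hmap k π n))
  have hzero : kernel.ι π ≫ φ₀ = 0 := by
    refine inj hK _ ?_
    refine LinearMap.ext fun x => ?_
    rw [dualOf_comp, LinearMap.comp_apply, hφ₀, LinearMap.comp_apply, ← hmap_comp, kernel.condition, hmap_zero,
      map_zero]
    rfl
  let S : ShortComplex (CohB1.ProjSpace n k).Modules := ShortComplex.mk (kernel.ι π) π (kernel.condition π)
  have hS : S.ShortExact := { exact := ShortComplex.exact_kernel π }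
  let φ : F ⟶ om k n := hS.exact.desc φ₀ hzero
  have hfac : π ≫ φ = φ₀ := hS.exact.g_desc φ₀ hzero
  refine ⟨φ, LinearMap.ext fun x => ?_⟩
  obtain ⟨y, rfl⟩ : ∃ y, hmap k π n y = x := by
    refine (exact_hmap_hdelta k hS n x).1 ?_
    exact (CMReg18.subsingleton_HH_of_lt k hK.1 (Nat.lt_succ_self n)).elim _ _
  rw [← LinearMap.comp_apply, ← dualOf_comp, hfac, hφ₀]
  rfl

end Groth.Agent.ProjDual12
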