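import Groth.Agent.Lib.ProjDual12.Top
import Groth.Agent.Lib.EnriquesSeveri11.DualSeq
import Groth.Agent.Lib.EnriquesSeveri11.ProjFacts
import Groth.Agent.Lib.CohMop.ExtAdjDual
import Groth.Agent.Lib.DPerf.Top
import Groth.Agent.S0844
import Groth.Prelude.Def_DCoh4

/-!
# Serre duality for finite locally free modules on projective space, as equalities of dimensions
-/

set_option autoImplicit false
set_option linter.style.haveILetI false
set_option backward.isDefEq.respectTransparency false
set_option backward.isDefEq.respectTransparency.types false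

universe u

open CategoryTheory CategoryTheory.Limits AlgebraicGeometry TopologicalSpace Opposite

noncomputable section

namespace Groth.Agent.ProjDual12

open Groth.Agent Groth.Agent.CurveCoh17

section general

variable {X : Scheme.{u}} (k : Type u) [Field k] [X.Over (Spec (CommRingCat.of k))]

theorem homEquiv_symm_eq (F G : X.Modules) {W : X.Modules} (f : W ⟶ (CohMop.ihom F).obj G) :
    ((CohMop.ihomAdj F).homEquiv W G).symm f =
      M2.tensorMap f (𝟙 F) ≫ (CohMop.ihomAdj F).counit.app G := by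
  rw [Adjunction.homEquiv_counit, show (CohMop.tenR F).map f = M2.tensorMap f (𝟙 F) from
    RHom.map_eq_tensorMap_left f F]

theorem secHom_smul_comp {F M G : X.Modules} (ε : CohB1.tensorMod M F ⟶ G) (r : Coh.Γtop X)
    (s : Coh.structureModule X ⟶ M) :
    (M2.tensorLUnit F).inv ≫ M2.tensorMap (s ≫ Formal.smulModΓ M r) (𝟙 F) ≫ ε =
      Formal.smulModΓ F r ≫ (M2.tensorLUnit F).inv ≫ M2.tensorMap s (𝟙 F) ≫ ε := by
  have h1 : M2.tensorMap (s ≫ Formal.smulModΓ M r) (𝟙 F) =
      Formal.smulModΓ (CohB1.tensorMod (Coh.structureModule X) F) r ≫ M2.tensorMap s (𝟙 F) := by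
    rw [KLin.comp_smulModΓ, ← tensorMap_smulModΓ]
    exact (M2.tensorR F).map_comp _ _
  have h2 : (M2.tensorLUnit F).inv ≫ Formal.smulModΓ (CohB1.tensorMod (Coh.structureModule X) F) r =
      Formal.smulModΓ F r ≫ (M2.tensorLUnit F).inv := KLin.comp_smulModΓ _ r
  rw [h1, Category.assoc, ← Category.assoc, h2, Category.assoc]

theorem homOf_smul (F : X.Modules) {M G : X.Modules} (ε : CohB1.tensorMod M F ⟶ G) (r : Coh.Γtop X)
    (x : Coh.HH X M 0) :
    (M2.tensorLUnit F).inv ≫ M2.tensorMap (M1.secHom (hh0 M (r • x))) (𝟙 F) ≫ ε =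
      Formal.smulModΓ F r ≫ (M2.tensorLUnit F).inv ≫ M2.tensorMap (M1.secHom (hh0 M x)) (𝟙 F) ≫ ε := by
  rw [hh0_smul, secHom_smul']
  exact secHom_smul_comp ε r _

theorem homOf_add (F : X.Modules) {M G : X.Modules} (ε : CohB1.tensorMod M F ⟶ G) (x y : Coh.HH X M 0) :
    (M2.tensorLUnit F).inv ≫ M2.tensorMap (M1.secHom (hh0 M (x + y))) (𝟙 F) ≫ ε =
      (M2.tensorLUnit F).inv ≫ M2.tensorMap (M1.secHom (hh0 M x)) (𝟙 F) ≫ ε +
        (M2.tensorLUnit F).inv ≫ M2.tensorMap (M1.secHom (hh0 M y)) (𝟙 F) ≫ ε := by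
  rw [map_add, secHom_add, show M2.tensorMap (M1.secHom (hh0 M x) + M1.secHom (hh0 M y)) (𝟙 F) =
    M2.tensorMap (M1.secHom (hh0 M x)) (𝟙 F) + M2.tensorMap (M1.secHom (hh0 M y)) (𝟙 F) from
    (M2.tensorR F).map_add, Preadditive.add_comp, Preadditive.comp_add]

/-- Global sections of the internal hom, as morphisms. -/
def homOfH0 (F G : X.Modules) : Coh.HH X ((CohMop.ihom F).obj G) 0 →ₗ[k] (F ⟶ G) where
  toFun x := (M2.tensorLUnit F).inv ≫ M2.tensorMap (M1.secHom (hh0 _ x)) (𝟙 F) ≫ (CohMop.ihomAdj F).counit.app G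
  map_add' x y := homOf_add F ((CohMop.ihomAdj F).counit.app G) x y
  map_smul' c x := by
    rw [RingHom.id_apply, KLin.smul_def]
    exact homOf_smul F ((CohMop.ihomAdj F).counit.app G) _ x

theorem bijective_counit (F G : X.Modules) (W : X.Modules) :
    Function.Bijective fun f : W ⟶ (CohMop.ihom F).obj G =>
      M2.tensorMap f (𝟙 F) ≫ (CohMop.ihomAdj F).counit.app G :=
  ⟨fun a b h => ((CohMop.ihomAdj F).homEquiv W G).symm.injective
      ((homEquiv_symm_eq F G a).trans (h.trans (homEquiv_symm_eq F G b).symm)),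
    fun g => ⟨(CohMop.ihomAdj F).homEquiv W G g,
      (homEquiv_symm_eq F G _).symm.trans (((CohMop.ihomAdj F).homEquiv W G).symm_apply_apply g)⟩⟩

theorem bijective_homOf {F M G : X.Modules} (ε : CohB1.tensorMod M F ⟶ G)
    (h : Function.Bijective fun f : Coh.structureModule X ⟶ M => M2.tensorMap f (𝟙 F) ≫ ε) :
    Function.Bijective fun x : Coh.HH X M 0 =>
      (M2.tensorLUnit F).inv ≫ M2.tensorMap (M1.secHom (hh0 M x)) (𝟙 F) ≫ ε := by
  have h1 : Function.Bijective fun x : Coh.HH X M 0 => M1.secHom (hh0 M x) :=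
    ⟨fun a b h => (hh0 M).injective ((M1.secHom_app_one _).symm.trans
      ((congrArg (fun f : Coh.structureModule X ⟶ M => f.app ⊤ (M1.one ⊤)) h).trans (M1.secHom_app_one _))),
      fun f => ⟨(hh0 M).symm (f.app ⊤ (M1.one ⊤)), M1.unit_hom_ext
        ((congrArg (fun s => (M1.secHom s).app ⊤ (M1.one ⊤)) ((hh0 M).apply_symm_apply _)).trans
          (M1.secHom_app_one _))⟩⟩
  have h2 : Function.Bijective fun g : CohB1.tensorMod (Coh.structureModule X) F ⟶ G =>
      (M2.tensorLUnit F).inv ≫ g :=
    ⟨fun a b e => (cancel_epi (M2.tensorLUnit F).inv).1 e,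
      fun g => ⟨(M2.tensorLUnit F).hom ≫ g, Iso.inv_hom_id_assoc _ _⟩⟩
  exact h2.comp (h.comp h1)

theorem bijective_homOfH0 (F G : X.Modules) : Function.Bijective (homOfH0 k F G) :=
  bijective_homOf ((CohMop.ihomAdj F).counit.app G) (bijective_counit F G _)

/-- The dual of a short exact sequence with finite locally free quotient is short exact. -/
theorem shortExact_ihom {S : ShortComplex X.Modules} (hS : S.ShortExact) (h₃ : FlatMod.IsFinLocFree S.X₃)
    (G : X.Modules) :
    (ShortComplex.mk ((CohMop.ihomNat S.g).app G) ((CohMop.ihomNat S.f).app G)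
      (CohMop.ihomNat_zero S G)).ShortExact := by
  haveI := hS.epi_g
  obtain ⟨hl⟩ := CohMop.nonempty_isLimit_ihomSeq hS.exact G
  haveI : Mono ((CohMop.ihomNat S.g).app G) := mono_of_isLimit_fork hl
  have h := RDSeq.exact_rightDerived_delta (CohMop.ihomNat S.g) (CohMop.ihomNat S.f) (CohMop.ihomNat_zero S)
    (CohMop.shortExact_ihom_of_injective hS) 0 G
  haveI : Epi ((NatTrans.rightDerived (CohMop.ihomNat S.f) 0).app G) :=
    h.epi_f ((CohMop.homExact_of_isFinLocFree h₃ 0 G).eq_of_tgt _ _)
  haveI : Epi ((CohMop.ihomNat S.f).app G) := by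
    have hn := RDSeq.toRightDerivedZero_natural (CohMop.ihomNat S.f) G
    haveI : IsIso ((CohMop.ihom S.X₁).toRightDerivedZero.app G) := inferInstance
    haveI : IsIso ((CohMop.ihom S.X₂).toRightDerivedZero.app G) := inferInstance
    haveI : Epi ((CohMop.ihomNat S.f).app G ≫ (CohMop.ihom S.X₁).toRightDerivedZero.app G) := by
      rw [hn]; exact epi_comp _ _
    rw [show (CohMop.ihomNat S.f).app G =
      ((CohMop.ihomNat S.f).app G ≫ (CohMop.ihom S.X₁).toRightDerivedZero.app G) ≫
        inv ((CohMop.ihom S.X₁).toRightDerivedZero.app G) by simp]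
    exact epi_comp _ _
  exact ShortComplex.ShortExact.mk' (ShortComplex.exact_of_f_is_kernel _ hl) inferInstance inferInstance

/-- `0 → A → B → C → D → 0` with finite-dimensional terms. -/
theorem finrank_four {A B C D : Type*} [AddCommGroup A] [Module k A] [AddCommGroup B] [Module k B]
    [AddCommGroup C] [Module k C] [AddCommGroup D] [Module k D] [Module.Finite k A] [Module.Finite k B]
    [Module.Finite k C] [Module.Finite k D] (f : A →ₗ[k] B) (g : B →ₗ[k] C) (h : C →ₗ[k] D)
    (hf : Function.Injective f) (hfg : Function.Exact f g) (hgh : Function.Exact g h)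
    (hh : Function.Surjective h) :
    Module.finrank k A + Module.finrank k C = Module.finrank k B + Module.finrank k D := by
  have h1 := LinearMap.finrank_range_add_finrank_ker g
  have h2 := LinearMap.finrank_range_add_finrank_ker h
  rw [LinearMap.exact_iff.1 hfg, LinearMap.finrank_range_of_inj hf] at h1
  rw [LinearMap.range_eq_top.2 hh, finrank_top, LinearMap.exact_iff.1 hgh] at h2
  omega

include k in
/-- Cohomology of a finite sum vanishes when that of the summand does. -/
theorem subsingleton_HH_coprod {G : X.Modules} {i : ℕ} (b : ℕ) (h : Subsingleton (Coh.HH X G i)) :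
    Subsingleton (Coh.HH X (∐ fun _ : Fin b => G) i) := by
  haveI : HasFiniteBiproducts X.Modules := Abelian.hasFiniteBiproducts
  haveI : Subsingleton (Coh.HH X (⨁ fun _ : Fin b => G) i) :=
    ⟨fun x y => (CMReg18.bijective_pi k (fun _ : Fin b => G) i).1 (funext fun _ => h.elim _ _)⟩
  exact (hequiv k (biproduct.isoCoproduct fun _ : Fin b => G) i).toEquiv.symm.subsingleton

/-- `Ext` out of a finite sum vanishes when that out of the summand does. -/
theorem subsingleton_ext_coprod [HasExt.{u} X.Modules] {A G : X.Modules} {i : ℕ} (b : ℕ)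
    (h : Subsingleton (Abelian.Ext A G i)) : Subsingleton (Abelian.Ext (∐ fun _ : Fin b => A) G i) := by
  classical
  haveI : HasFiniteBiproducts X.Modules := Abelian.hasFiniteBiproducts
  let f : Fin b → X.Modules := fun _ => A
  let e := biproduct.isoCoproduct f
  refine subsingleton_of_forall_eq 0 fun x => ?_
  have hid : 𝟙 (∐ f) = ∑ j, (e.inv ≫ biproduct.π f j) ≫ (biproduct.ι f j ≫ e.hom) := by
    simp only [Category.assoc]
    rw [← Preadditive.comp_sum]
    simp only [← Category.assoc (biproduct.π f _)]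
    rw [← Preadditive.sum_comp, biproduct.total, Category.id_comp, e.inv_hom_id]
  rw [← Abelian.Ext.mk₀_id_comp x, hid, Abelian.Ext.mk₀_sum, Abelian.Ext.sum_comp]
  refine Finset.sum_eq_zero fun j _ => ?_
  rw [← Abelian.Ext.mk₀_comp_mk₀, Abelian.Ext.comp_assoc _ _ x (zero_add 0) (zero_add i) (by simp),
    show (Abelian.Ext.mk₀ (biproduct.ι f j ≫ e.hom)).comp x (zero_add i) = 0 from h.elim _ _,
    Abelian.Ext.comp_zero]

end general

variable (k : Type u) [Field k] (n : ℕ)

local notation "P" => CohB1.ProjSpace n k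

/-- `φ ↦ t ∘ H^n(φ)` is linear. -/
def dualOfₗ (F : (CohB1.ProjSpace n k).Modules) : (F ⟶ om k n) →ₗ[k] Module.Dual k (Coh.HH P F n) where
  toFun := dualOf
  map_add' := dualOf_add
  map_smul' c φ := LinearMap.ext fun x => by
    show trace k n (hmap k (c • φ) n x) = c • trace k n (hmap k φ n x)
    rw [KLin.smul_def, hmap_comp k, ← map_smul (trace k n), ← map_smul (hmap k φ n)]
    exact congrArg (fun y => trace k n (hmap k φ n y)) (hmap₀_smulModΓ F _ n x)

variable {k n}

theorem finrank_h0_ihom {F : (CohB1.ProjSpace n k).Modules} (hF : Coh.IsCoh F) :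
    Module.finrank k (Coh.HH P ((CohMop.ihom F).obj (om k n)) 0) = Module.finrank k (Coh.HH P F n) := by
  haveI := finite_h k n hF n
  refine Eq.trans ?_ Subspace.dual_finrank_eq
  exact ((LinearEquiv.ofBijective (homOfH0 k F (om k n)) (bijective_homOfH0 k F _)).trans
    (LinearEquiv.ofBijective (dualOfₗ k n F) (rep hF))).finrank_eq

/-- Negative twists have no cohomology below the top degree. -/
theorem subsingleton_h_tneg (m : ℕ) {i : ℕ} (hi : i ≠ n) : Subsingleton (Coh.HH P (tneg k n m) i) :=
  S0844.result k n _ i (fun h => by obtain ⟨-, h⟩ := h; omega) fun h => hi h.1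

theorem subsingleton_ext_tneg [HasExt.{u} (CohB1.ProjSpace n k).Modules] (m : ℕ) {j : ℕ} (hj : 0 < j) :
    Subsingleton (Abelian.Ext (tneg k n m) (om k n) j) := by
  have hinv := Twist.isInvertible_twistProjSpace n k (-((n : ℤ) + 1 + m))
  have hfl := M2.isFinLocFree_of_isInvertible hinv
  obtain ⟨e⟩ := CohMop.nonempty_ext_addEquiv_HH hfl (om k n) j
  let D := CMReg18.projData k n
  let ee : CohB1.tensorMod (tneg k n m) (D.O ((n : ℤ) + 1 + m)) ≅ Coh.structureModule P :=
    D.add _ _ ≪≫ eqToIso (congrArg D.O (neg_add_cancel _)) ≪≫ D.zero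
  haveI := VB17.isEquivalence_tensorR hinv
  let A := (M2.tensorR (tneg k n m)).asEquivalence.toAdjunction
  let η : CohMop.ihom (tneg k n m) ≅ (M2.tensorR (tneg k n m)).inv :=
    (CohMop.ihomAdj (tneg k n m)).rightAdjointUniq (A.ofNatIsoLeft (ES11.tenRIso (tneg k n m)).symm)
  let u : CohB1.tensorMod (tpos k n m) (tneg k n m) ≅ om k n := mulIso k n m
  let iso : (CohMop.ihom (tneg k n m)).obj (om k n) ≅ tpos k n m :=
    η.app _ ≪≫ (M2.tensorR (tneg k n m)).inv.mapIso u.symm ≪≫
      ((M2.tensorR (tneg k n m)).asEquivalence.unitIso.app (tpos k n m)).symm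
  haveI : Subsingleton (Coh.HH P (tpos k n m) j) :=
    S0844.result k n _ j (fun h => by omega) (fun h => by obtain ⟨-, h⟩ := h; omega)
  exact (e.toEquiv.trans (hequiv k iso j).toEquiv).subsingleton

theorem isFinLocFree_sum (b m : ℕ) : FlatMod.IsFinLocFree (∐ fun _ : Fin b => tneg k n m) := by
  have h := M2.isFinLocFree_tensor (KFlat.Sch.isFinLocFree_freeMod (CohB1.ProjSpace n k) b)
    (M2.isFinLocFree_of_isInvertible (Twist.isInvertible_twistProjSpace n k (-((n : ℤ) + 1 + m))))
  exact M2.isFinLocFree_of_iso (M2.freeModTensorIso _ b _) h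

/-- Serre duality in dimensions. -/
theorem finrank_duality : ∀ (j : ℕ) {F : (CohB1.ProjSpace n k).Modules}, FlatMod.IsFinLocFree F →
    ∀ i, i + j = n → Module.finrank k (Coh.HH P ((CohMop.ihom F).obj (om k n)) j) =
      Module.finrank k (Coh.HH P F i) := by
  haveI := CMReg18.isProper_projSpace k (n := n)
  haveI : IsLocallyNoetherian P := CohFound.ProjNum.isLocallyNoetherian_projSpace n k
  haveI : HasExt.{u} (CohB1.ProjSpace n k).Modules := inferInstance
  intro j
  induction j with
  | zero =>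
    intro F hF i hi
    obtain rfl : i = n := by omega
    exact finrank_h0_ihom (CohFound.isCoh_of_isFinLocFree hF)
  | succ j ih =>
    intro F hF i hi
    have hcF := CohFound.isCoh_of_isFinLocFree hF
    obtain ⟨b, m, π, -, hπ⟩ := exists_epi_sum hcF 0
    haveI := hπ
    let S : ShortComplex (CohB1.ProjSpace n k).Modules := ShortComplex.mk (kernel.ι π) π (kernel.condition π)
    have hS : S.ShortExact := { exact := ShortComplex.exact_kernel π }
    have hE := isFinLocFree_sum (k := k) (n := n) b m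
    have hK : FlatMod.IsFinLocFree (kernel π) :=
      DPerf.isFinLocFree_kernel (kernel.ι π) π (kernel.condition π) hS hE hF
    have hcK := CohFound.isCoh_of_isFinLocFree hK
    have hcE := isCoh_sum (k := k) (n := n) (m := m) b
    let S' := ShortComplex.mk ((CohMop.ihomNat S.g).app (om k n)) ((CohMop.ihomNat S.f).app (om k n))
      (CohMop.ihomNat_zero S (om k n))
    have hS' : S'.ShortExact := shortExact_ihom hS hF (om k n)
    have hEi : Subsingleton (Coh.HH P S.X₂ i) :=
      subsingleton_HH_coprod k b (subsingleton_h_tneg m (by omega))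
    have hE'v : ∀ q : ℕ, 0 < q → Subsingleton (Coh.HH P S'.X₂ q) := fun q hq => by
      haveI := subsingleton_ext_coprod b (subsingleton_ext_tneg (k := k) (n := n) m hq)
      obtain ⟨e⟩ := CohMop.nonempty_ext_addEquiv_HH hE (om k n) q
      exact e.symm.toEquiv.subsingleton
    have hk := ih hK (i + 1) (by omega)
    rcases Nat.eq_zero_or_pos j with rfl | hj
    · obtain rfl : n = i + 1 := by omega
      haveI := finite_h k (i + 1) hcF i
      haveI := finite_h k (i + 1) hcF (i + 1)
      haveI := finite_h k (i + 1) hcK (i + 1)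
      haveI := finite_h k (i + 1) hcE (i + 1)
      have h0F := finrank_h0_ihom hcF
      have h0E := finrank_h0_ihom hcE
      have hc : ∀ {G : (CohB1.ProjSpace (i + 1) k).Modules}, FlatMod.IsFinLocFree G → ∀ q,
          Module.Finite k (Coh.HH (CohB1.ProjSpace (i + 1) k) ((CohMop.ihom G).obj (om k (i + 1))) q) := fun hG q => by
        refine finite_h k (i + 1) ?_ q
        exact CohMop.homCoh_of_isCoh (CohFound.isCoh_of_isFinLocFree hG) _
          (Snapper.isCoh_of_isInvertible (Twist.isInvertible_twistProjSpace (i + 1) k _))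
      haveI : Module.Finite k (Coh.HH _ S'.X₁ 0) := hc hF 0
      haveI : Module.Finite k (Coh.HH _ S'.X₁ (0 + 1)) := hc hF 1
      haveI : Module.Finite k (Coh.HH _ S'.X₂ 0) := hc hE 0
      haveI : Module.Finite k (Coh.HH _ S'.X₃ 0) := hc hK 0
      have hA := finrank_four k (hmap k S'.f 0) (hmap k S'.g 0) (hdelta k hS' 0) (hmap_f_injective k hS')
        (exact_hmap_hmap k hS' 0) (exact_hmap_hdelta k hS' 0) fun y =>
          (exact_hdelta_hmap k hS' 0 y).1 ((hE'v 1 one_pos).elim _ _)
      have hB := finrank_four k (hdelta k hS i) (hmap k S.f (i + 1)) (hmap k S.g (i + 1))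
        ((injective_iff_map_eq_zero _).2 fun y hy => by
          obtain ⟨z, rfl⟩ := (exact_hmap_hdelta k hS i y).1 hy
          rw [hEi.elim z 0, map_zero])
        (exact_hdelta_hmap k hS i) (exact_hmap_hmap k hS (i + 1)) fun y =>
          (exact_hmap_hdelta k hS (i + 1) y).1
            ((CMReg18.subsingleton_HH_of_lt k hcK.1 (Nat.lt_succ_self (i + 1))).elim _ _)
      change Module.finrank k (Coh.HH _ S'.X₁ 1) = _
      change Module.finrank k (Coh.HH _ S'.X₁ 0) + Module.finrank k (Coh.HH _ S'.X₃ 0) =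
        Module.finrank k (Coh.HH _ S'.X₂ 0) + Module.finrank k (Coh.HH _ S'.X₁ 1) at hA
      change _ = Module.finrank k (Coh.HH _ S.X₁ (i + 1)) + Module.finrank k (Coh.HH _ S.X₃ (i + 1)) at hB
      change Module.finrank k (Coh.HH _ S'.X₃ 0) = Module.finrank k (Coh.HH _ S.X₁ (i + 1)) at hk
      change Module.finrank k (Coh.HH _ S'.X₁ 0) = Module.finrank k (Coh.HH _ S.X₃ (i + 1)) at h0F
      change Module.finrank k (Coh.HH _ S'.X₂ 0) = Module.finrank k (Coh.HH _ S.X₂ (i + 1)) at h0E
      change _ = Module.finrank k (Coh.HH _ S.X₃ i)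
      omega
    · have e₁ : Function.Bijective (hdelta k hS i) :=
        ⟨(injective_iff_map_eq_zero _).2 fun y hy => by
          obtain ⟨z, rfl⟩ := (exact_hmap_hdelta k hS i y).1 hy
          rw [hEi.elim z 0, map_zero],
        fun y => (exact_hdelta_hmap k hS i y).1
          ((subsingleton_HH_coprod k b (subsingleton_h_tneg m (by omega))).elim _ _)⟩
      have e₂ : Function.Bijective (hdelta k hS' j) :=
        ⟨(injective_iff_map_eq_zero _).2 fun y hy => by
          obtain ⟨z, rfl⟩ := (exact_hmap_hdelta k hS' j y).1 hy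
          rw [(hE'v j hj).elim z 0, map_zero],
        fun y => (exact_hdelta_hmap k hS' j y).1 ((hE'v (j + 1) (Nat.succ_pos j)).elim _ _)⟩
      exact ((LinearEquiv.ofBijective _ e₂).finrank_eq.symm.trans hk).trans
        (LinearEquiv.ofBijective _ e₁).finrank_eq.symm

/-- Serre duality. -/
theorem nonempty_duality {F : (CohB1.ProjSpace n k).Modules} (hF : FlatMod.IsFinLocFree F) [DCoh.HasSheafHom F]
    {i : ℕ} (hi : i ≤ n) :
    Nonempty (Module.Dual k (Coh.HH P F i) ≃ₗ[k] Coh.HH P ((DCoh.sheafHom F).obj (om k n)) (n - i)) := by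
  let θ : CohMop.ihom F ≅ DCoh.sheafHom F :=
    (CohMop.ihomAdj F).rightAdjointUniq
      ((DCoh.sheafHomAdj F).ofNatIsoLeft (KFlat.Site.flipObjIso (CohB1.ProjSpace n k).sheaf F))
  haveI := finite_h k n (CohFound.isCoh_of_isFinLocFree hF) i
  haveI : IsLocallyNoetherian P := CohFound.ProjNum.isLocallyNoetherian_projSpace n k
  haveI := finite_h k n (CohMop.homCoh_of_isCoh (CohFound.isCoh_of_isFinLocFree hF) (om k n)
    (Snapper.isCoh_of_isInvertible (Twist.isInvertible_twistProjSpace n k (-((n : ℤ) + 1))))) (n - i)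
  have h := finrank_duality (n - i) hF i (by omega)
  exact ⟨(LinearEquiv.ofFinrankEq _ _ (Subspace.dual_finrank_eq.trans h.symm)).trans
    (hequiv k (θ.app (om k n)) (n - i))⟩

end Groth.Agent.ProjDual12
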