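import Groth.Agent.Lib.ProjDual12.Pairing
import Groth.Agent.Lib.CohMop.ExtAdjDual
import Groth.Agent.Lib.DefDiag3.Hom
import Groth.Agent.Lib.ExtFin9.Fin
import Mathlib.Algebra.Homology.DerivedCategory.Ext.Linear

/-!
# Duality in a range from a representing functional; `Ext` out of a locally free module, linearly
-/

set_option autoImplicit false
set_option linter.style.haveILetI false
set_option linter.unusedSectionVars false
set_option backward.isDefEq.respectTransparency false
set_option backward.isDefEq.respectTransparency.types false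

universe u

open CategoryTheory CategoryTheory.Limits AlgebraicGeometry Opposite Abelian

noncomputable section

namespace Groth.Agent.ProjDual12

open Groth.Agent Groth.Agent.CurveCoh17 Groth.Agent.CohFound

variable {k : Type u} [Field k] {X : Scheme.{u}} [X.Over (Spec (CommRingCat.of k))] [HasExt.{u} X.Modules]
  {n : ℕ} {W : X.Modules} (tr : Coh.HH X W n →ₗ[k] k)

theorem pairT_smul {G : X.Modules} {q j : ℕ} (h : q + j = n) (c : k) (x : Ext G W j) :
    pairT tr h (c • x) = c • pairT tr h x :=
  LinearMap.ext fun y => by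
    have hw : c • 𝟙 W = Formal.smulMod k W c := by rw [KLin.smul_def, Category.comp_id]
    show tr (cup h (c • x) y) = c • tr (cup h x y)
    rw [Ext.smul_eq_comp_mk₀, hw, cup_comp_mk₀, ← map_smul tr]
    exact congrArg tr (hmap₀_smulModΓ W _ n _)

/-- The pairing, linearly in the extension class. -/
def pairL {G : X.Modules} {q j : ℕ} (h : q + j = n) : Ext G W j →ₗ[k] Module.Dual k (Coh.HH X G q) where
  toFun := pairT tr h
  map_add' := pairT_add tr h
  map_smul' := pairT_smul tr h

/-- Enough modules acyclic in a range on both sides. -/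
def AcyclicRange (k : Type u) [Field k] [X.Over (Spec (CommRingCat.of k))] (n s : ℕ) (W : X.Modules) : Prop :=
  ∀ {G : X.Modules}, Coh.IsCoh G → ∃ (K E : X.Modules) (f : K ⟶ E) (g : E ⟶ G) (w : f ≫ g = 0),
    (ShortComplex.mk f g w).ShortExact ∧ Coh.IsCoh K ∧ Coh.IsCoh E ∧
      (∀ p, 0 < p → p ≤ s → Subsingleton (Ext E W p)) ∧
        ∀ p, p < n → n ≤ p + s → Subsingleton (Coh.HH X E p)

/-- The pairing is perfect in a range. -/
theorem pairT_bijective_range {s : ℕ}
    (hrep : ∀ {G : X.Modules}, Coh.IsCoh G → Function.Bijective fun φ : G ⟶ W => tr.comp (hmap k φ n))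
    (hres : AcyclicRange k n s W) :
    ∀ (j : ℕ), j ≤ s → ∀ {G : X.Modules}, Coh.IsCoh G → ∀ {q : ℕ} (h : q + j = n),
      Function.Bijective (pairT tr (G := G) (q := q) (j := j) h) := by
  intro j
  induction j with
  | zero =>
    intro _ G hG q h
    obtain rfl : q = n := by omega
    refine ⟨fun x x' hx => ?_, fun ψ => ?_⟩
    · obtain ⟨φ, rfl⟩ := (Ext.mk₀_bijective _ _).2 x
      obtain ⟨φ', rfl⟩ := (Ext.mk₀_bijective _ _).2 x'
      rw [pairT_mk₀, pairT_mk₀] at hx
      rw [(hrep hG).1 hx]
    · obtain ⟨φ, hφ⟩ := (hrep hG).2 ψ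
      exact ⟨Ext.mk₀ φ, (pairT_mk₀ tr φ).trans hφ⟩
  | succ j ih =>
    intro hjs G hG q h
    obtain ⟨K, E, f, g, w, hS, hcK, hcE, hE, hEi⟩ := hres hG
    have hsurj : ∀ x : Ext G W (j + 1), ∃ a : Ext K W j,
        hS.extClass.comp a (add_comm 1 j) = x := fun x => by
      obtain ⟨a, ha⟩ := Ext.contravariant_sequence_exact₃ hS W (n₁ := j + 1) x
        ((hE (j + 1) (Nat.succ_pos j) hjs).elim _ _) (add_comm 1 j)
      exact ⟨a, ha⟩
    have hdinj : Function.Injective (hdelta k hS q) := (injective_iff_map_eq_zero _).2 fun y hy => by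
      obtain ⟨z, rfl⟩ := (exact_hmap_hdelta k hS q y).1 hy
      rw [(hEi q (by omega) (by omega)).elim z 0, map_zero]
    have hK := @ih (by omega) K hcK (q + 1) (by omega)
    have hzero : ∀ {x : Ext G W (j + 1)}, pairT tr h x = 0 → x = 0 := by
      intro x hx
      obtain ⟨a, rfl⟩ := hsurj x
      rw [pairT_extClass] at hx
      rcases Nat.eq_zero_or_pos j with rfl | hj
      · obtain rfl : n = q + 1 := by omega
        obtain ⟨φ, rfl⟩ := (Ext.mk₀_bijective _ _).2 a
        rw [pairT_mk₀] at hx
        obtain ⟨η, hη⟩ := exists_dual_comp_of_exact _ _ (exact_hdelta_hmap k hS q)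
          (tr.comp (hmap k φ (q + 1))) hx
        obtain ⟨ψ, hψ⟩ := (hrep hcE).2 η
        have hf : f ≫ ψ = φ := (hrep hcK).1 (LinearMap.ext fun z => by
          show tr (hmap k (f ≫ ψ) (q + 1) z) = tr (hmap k φ (q + 1) z)
          rw [hmap_comp k]
          exact (LinearMap.congr_fun hψ _).trans (LinearMap.congr_fun hη z))
        rw [← hf, ← Ext.mk₀_comp_mk₀]
        exact hS.extClass_comp_assoc _
      · have hd : Function.Surjective (hdelta k hS q) := fun y =>
          (exact_hdelta_hmap k hS q y).1 ((hEi (q + 1) (by omega) (by omega)).elim _ _)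
        have h0 : pairT tr (show q + 1 + j = n by omega) a = 0 := LinearMap.ext fun y => by
          obtain ⟨z, rfl⟩ := hd y
          exact LinearMap.congr_fun hx z
        obtain rfl : a = 0 := hK.1 (h0.trans (pairT_zero tr _).symm)
        exact Ext.comp_zero _ _ _ _ _
    refine ⟨fun x x' hx => sub_eq_zero.1 (hzero ?_), fun ψ => ?_⟩
    · have := pairT_add tr h (x - x') x'
      rw [sub_add_cancel, hx] at this
      exact right_eq_add.1 this
    · obtain ⟨ψ', hψ'⟩ := LinearMap.dualMap_surjective_of_injective hdinj ψ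
      obtain ⟨a, ha⟩ := hK.2 ψ'
      refine ⟨hS.extClass.comp a (add_comm 1 j), ?_⟩
      rw [pairT_extClass, ha]
      exact hψ'

include tr in
/-- No extensions beyond the dimension. -/
theorem subsingleton_ext_above
    (hrep : ∀ {G : X.Modules}, Coh.IsCoh G → Function.Bijective fun φ : G ⟶ W => tr.comp (hmap k φ n))
    (hres : ∀ s, AcyclicRange k n s W) :
    ∀ i, n < i → ∀ {G : X.Modules}, Coh.IsCoh G → Subsingleton (Ext G W i) := by
  intro i
  induction i with
  | zero => exact fun h => absurd h (Nat.not_lt_zero n)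
  | succ i ih =>
    intro hi G hG
    obtain ⟨K, E, f, g, w, hS, hcK, hcE, hE, hEi⟩ := hres (i + 1) hG
    refine subsingleton_of_forall_eq 0 fun x => ?_
    obtain ⟨a, rfl⟩ := Ext.contravariant_sequence_exact₃ hS W (n₁ := i + 1) x
      ((hE (i + 1) (Nat.succ_pos i) le_rfl).elim _ _) (add_comm 1 i)
    rcases (Nat.lt_succ_iff.1 hi).lt_or_eq with hlt | rfl
    · rw [(ih hlt hcK).elim a 0]
      exact Ext.comp_zero _ _ _ _ _
    · have hb := pairT_bijective_range tr hrep (hres n) n le_rfl hcK (q := 0) (zero_add n)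
      by_cases hn : n = 0
      · subst hn
        obtain ⟨φ, rfl⟩ := (Ext.mk₀_bijective _ _).2 a
        obtain ⟨η, hη⟩ := exists_dual_comp_of_exact (0 : Coh.HH X K 0 →ₗ[k] Coh.HH X K 0)
          (hmap k f 0) (fun y => ⟨fun hy => ⟨y, (hmap_f_injective k hS (hy.trans (map_zero _).symm)).symm⟩,
            fun ⟨z, hz⟩ => by rw [← hz, LinearMap.zero_apply, map_zero]⟩)
          (tr.comp (hmap k φ 0)) (LinearMap.comp_zero _)
        obtain ⟨ψ, hψ⟩ := (hrep hcE).2 η
        have hf : f ≫ ψ = φ := (hrep hcK).1 (LinearMap.ext fun z => by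
          show tr (hmap k (f ≫ ψ) 0 z) = tr (hmap k φ 0 z)
          rw [hmap_comp k]
          exact (LinearMap.congr_fun hψ _).trans (LinearMap.congr_fun hη z))
        rw [← hf, ← Ext.mk₀_comp_mk₀]
        exact hS.extClass_comp_assoc _
      · haveI := hEi 0 (Nat.pos_of_ne_zero hn) (by omega)
        haveI : Subsingleton (Coh.HH X K 0) := ⟨fun y z => hmap_f_injective k hS (Subsingleton.elim _ _)⟩
        have ha : a = 0 := hb.1 (LinearMap.ext fun y => by
          rw [Subsingleton.elim y 0, map_zero, map_zero])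
        rw [ha]
        exact Ext.comp_zero _ _ _ _ _

attribute [local instance] HasDerivedCategory.standard in
/-- `Ext^j(A, G) = H^j(ℋom(A, G))` linearly, for finite locally free `A`. -/
theorem nonempty_ext_linearEquiv_HH {A : X.Modules} (hA : FlatMod.IsFinLocFree A) (G : X.Modules) (j : ℕ) :
    Nonempty (Ext A G j ≃ₗ[k] Coh.HH X ((CohMop.ihom A).obj G) j) := by
  haveI := CohMop.additive_ihom A
  haveI := DefDiag3.linear_ihom (k := k) A
  haveI : PreservesFiniteLimits (CohMop.ihom A) :=
    haveI : PreservesLimitsOfSize.{0, 0} (CohMop.ihom A) := (CohMop.ihomAdj A).rightAdjoint_preservesLimits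
    PreservesLimitsOfSize.preservesFiniteLimits _
  haveI : (CohMop.ihom A).PreservesHomology := by
    refine Functor.preservesHomology_of_map_exact _ ((Functor.exact_tfae (CohMop.ihom A)).out 0 1 |>.1 fun S hS => ?_)
    exact RFPlus.shortExact_map_of_isZero (CohMop.ihom A) S hS (CohMop.homExact_of_isFinLocFree hA 0 S.X₁)
  haveI : PreservesFiniteColimits (CohMop.ihom A) := Functor.preservesFiniteColimits_of_preservesHomology _
  haveI : (CohMop.tenR A).PreservesMonomorphisms :=
    ((KFlat.Sch.isFlat_iff A).2 (KFlat.Sch.isFlat_of_isFinLocFree hA)).right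
  let O := Coh.structureModule X
  let u : (CohMop.tenR A).obj O ≅ A := DefDiag3.unitT A
  obtain ⟨e'⟩ := ExtFin9.exists_ext_linearEquiv k ((CohMop.ihom A).obj G) j
  let F : Ext A G j → Ext O ((CohMop.ihom A).obj G) j := fun x =>
    SiteCoh.extAdjHom (CohMop.ihomAdj A) O G j ((Ext.mk₀ u.hom).comp x (zero_add j))
  have hF : IsLinearMap k F :=
    { map_add := fun x y => by
        show SiteCoh.extAdjHom _ O G j _ = _
        rw [Ext.comp_add, map_add]
      map_smul := fun c x => by
        show SiteCoh.extAdjHom _ O G j _ = c • SiteCoh.extAdjHom _ O G j _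
        rw [Ext.comp_smul, SiteCoh.extAdjHom_apply, SiteCoh.extAdjHom_apply, Functor.mapExactFunctor_smul,
          Ext.comp_smul] }
  have hb : Function.Bijective F :=
    (SiteCoh.bijective_extAdjHom (CohMop.ihomAdj A)
      (fun I _ => Injective.injective_of_adjoint (CohMop.ihomAdj A) I) j O G).comp
      (Function.bijective_iff_has_inverse.2
        ⟨fun y => (Ext.mk₀ u.inv).comp y (zero_add j), fun x => by simp, fun y => by simp⟩)
  exact ⟨(LinearEquiv.ofBijective hF.mk' hb).trans e'⟩

end Groth.Agent.ProjDual12
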