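import Groth.Agent.Lib.ProjDual12.ExtVanStalk
import Groth.Agent.Lib.CMReg18.ClosedSub

/-!
# Negative twists on closed subschemes of projective space
-/

set_option autoImplicit false
set_option linter.style.haveILetI false
set_option linter.unusedSectionVars false
set_option backward.isDefEq.respectTransparency false
set_option backward.isDefEq.respectTransparency.types false

universe u

open CategoryTheory CategoryTheory.Limits AlgebraicGeometry TopologicalSpace Opposite

noncomputable section

namespace Groth.Agent.ProjDual12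

open Groth.Agent

variable {k : Type u} [Field k] {n : ℕ} {X : Scheme.{u}} (ι : X ⟶ CohB1.ProjSpace n k) [IsClosedImmersion ι]

theorem isCoh_push {N : X.Modules} (hN : Coh.IsCoh N) : Coh.IsCoh ((Scheme.Modules.pushforward ι).obj N) := by
  haveI : IsLocallyNoetherian (CohB1.ProjSpace n k) := CohFound.ProjNum.isLocallyNoetherian_projSpace n k
  exact CohFound.isCoh_push_closedImm ι hN

theorem negVan_push_iff {N : X.Modules} (hN : Coh.IsQCoh N) (q : ℕ) :
    ES11.NegVan ((Scheme.Modules.pushforward ι).obj N) q ↔ ∃ m₀ : ℤ, ∀ m : ℤ, m₀ ≤ m →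
      Subsingleton (Coh.HH X (CohB1.tensorMod N ((Scheme.Modules.pullback ι).obj
        (_root_.Twist.twistProjSpace n k (-m)))) q) := by
  letI : X.Over (Spec (CommRingCat.of k)) := ⟨ι ≫ CohB1.ProjSpace.toSpec n k⟩
  refine exists_congr fun m₀ => forall₂_congr fun m _ => ?_
  obtain ⟨e⟩ := CMReg18.nonempty_HH_push_tw (k := k) ι rfl hN (-m) q
  exact e.toEquiv.subsingleton_congr

theorem negVan_push_structure_iff (q : ℕ) :
    ES11.NegVan ((Scheme.Modules.pushforward ι).obj (Coh.structureModule X)) q ↔
      ∃ m₀ : ℤ, ∀ m : ℤ, m₀ ≤ m → Subsingleton (Coh.HH X ((Scheme.Modules.pullback ι).obj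
        (_root_.Twist.twistProjSpace n k (-m))) q) := by
  letI : X.Over (Spec (CommRingCat.of k)) := ⟨ι ≫ CohB1.ProjSpace.toSpec n k⟩
  haveI : IsLocallyNoetherian (CohB1.ProjSpace n k) := CohFound.ProjNum.isLocallyNoetherian_projSpace n k
  haveI : IsLocallyNoetherian X := LocallyOfFiniteType.isLocallyNoetherian ι
  rw [negVan_push_iff ι (M1.isCoh_structureModule X).1 q]
  refine exists_congr fun m₀ => forall₂_congr fun m _ => ?_
  exact (CurveCoh17.hequiv k (M2.tensorLUnit ((Scheme.Modules.pullback ι).obj
    (_root_.Twist.twistProjSpace n k (-m)))) q).toEquiv.subsingleton_congr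

end Groth.Agent.ProjDual12
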