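import Groth.Agent.S0342
import Groth.Agent.Lib.ExtRegular
import Groth.Agent.Lib.RegLoc.Basic
import Groth.Agent.Lib.CohMop.StalkExt
import Groth.Agent.Lib.CohMop.ExtZVanish
import Groth.Agent.Lib.Cyc26.Stalk
import Groth.Agent.Lib.CurveCoh17.Integral
import Groth.Agent.Lib.ModM1.LocFree
import Groth.Agent.Lib.SyntRank2.Basic
import Groth.Agent.Lib.ProjDual12.Closed
import Groth.Agent.Lib.CohMop.ClosedCounit

/-!
# The generic rank of `Ext^c(ι_* O_X, ω_P)`
-/

set_option autoImplicit false
set_option linter.style.haveILetI false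
set_option linter.unusedSectionVars false
set_option backward.isDefEq.respectTransparency false
set_option backward.isDefEq.respectTransparency.types false

universe u

open CategoryTheory CategoryTheory.Limits AlgebraicGeometry TopologicalSpace Opposite Abelian IsLocalRing

noncomputable section

namespace Groth.Agent.ProjDual12

open Groth.Agent

/-- `Ext^c(k, R) ≅ k` for a regular local ring of dimension `c`. -/
theorem nonempty_ext_residueField {R : Type u} [CommRing R] [IsRegularLocalRing R] {c : ℕ}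
    (hc : ringKrullDim R = (c : WithBot ℕ∞)) :
    Nonempty (Ext (ModuleCat.of R (R ⧸ maximalIdeal R)) (ModuleCat.of R R) c ≃ₗ[R] R ⧸ maximalIdeal R) := by
  have hn : (maximalIdeal R).spanFinrank = c := by
    have := IsRegularLocalRing.spanFinrank_maximalIdeal (R := R)
    exact_mod_cast this.trans hc
  obtain ⟨x, hx⟩ : ∃ x : Fin c → R, Ideal.span (Set.range x) = maximalIdeal R := by
    obtain ⟨x, hx⟩ := RegLoc.exists_fin_generators R
    exact ⟨x ∘ Fin.cast hn.symm, (congrArg Ideal.span ((finCongr hn.symm).surjective.range_comp x)).trans hx⟩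
  have hm : Ideal.ofList (List.ofFn x) = maximalIdeal R := by
    rw [← hx, Ideal.ofList]
    congr 1
    ext r
    simp [List.mem_ofFn]
  obtain ⟨⟨e⟩, -⟩ := ExtRegular.ext_quotient_of_weaklyRegular (List.ofFn x)
    (RegLoc.isRegular_of_span_range c R x hx hn).toIsWeaklyRegular R
  rw [List.length_ofFn, hm] at e
  exact ⟨e.trans (Submodule.quotEquivOfEq _ _ (by rw [smul_eq_mul, Ideal.mul_top]))⟩

theorem length_quot_maximal (R : Type u) [CommRing R] [IsLocalRing R] :
    Module.length R (R ⧸ maximalIdeal R) = 1 := by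
  rw [Module.length_eq_one_iff, isSimpleModule_iff_quot_maximal]
  exact ⟨maximalIdeal R, maximalIdeal.isMaximal R, ⟨LinearEquiv.refl R _⟩⟩

theorem nonempty_extCongr {R : Type u} [CommRing R] {M M' N N' : ModuleCat.{u} R} (a : M ≅ M') (b : N ≅ N') (c : ℕ) :
    Nonempty (Ext M N c ≃ₗ[R] Ext M' N' c) := by
  refine ⟨{ toFun := fun z => ((Ext.mk₀ a.inv).comp z (zero_add c)).comp (Ext.mk₀ b.hom) (add_zero c)
            invFun := fun z => ((Ext.mk₀ a.hom).comp z (zero_add c)).comp (Ext.mk₀ b.inv) (add_zero c)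
            map_add' := fun z w => by simp
            map_smul' := fun r z => by simp
            left_inv := fun z => ?_
            right_inv := fun z => ?_ }⟩
  all_goals simp [Ext.comp_assoc_of_second_deg_zero]

theorem length_ext_of_length_one {R : Type u} [CommRing R] [IsRegularLocalRing R] {c : ℕ}
    (hc : ringKrullDim R = (c : WithBot ℕ∞)) {M N : ModuleCat.{u} R} (hM : Module.length R M = 1)
    (eN : R ≃ₗ[R] N) : Module.length R (Ext M N c) = 1 := by
  obtain ⟨I, hI, ⟨e⟩⟩ := isSimpleModule_iff_quot_maximal.1 (Module.length_eq_one_iff.1 hM)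
  rw [eq_maximalIdeal hI] at e
  obtain ⟨f⟩ := nonempty_ext_residueField hc
  obtain ⟨g⟩ := nonempty_extCongr (M := M) (N := N) e.toModuleIso eN.toModuleIso.symm c
  rw [g.length_eq]
  exact f.length_eq.trans (length_quot_maximal R)

variable {P X : Scheme.{u}}

theorem length_stFun (x : P) (M : P.Modules) :
    Module.length (ModSite.stalkRing (CohMop.pt x) P.sheaf) ((CohMop.stFun x).obj M) =
      Module.length (P.presheaf.stalk x) (M.presheaf.stalk x) :=
  (Cyc26.length_eq_of_semilinear (CohMop.ringCmp x).toRingHom (CohMop.ringCmp x).surjective (CohMop.modCmp x M)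
    (CohMop.modCmp_smul x M)).symm

theorem nonempty_stFun_equiv {L : P.Modules} (hL : FlatMod.IsFinLocFreeOfRank 1 L) (x : P) :
    Nonempty (ModSite.stalkRing (CohMop.pt x) P.sheaf ≃ₗ[ModSite.stalkRing (CohMop.pt x) P.sheaf]
      (CohMop.stFun x).obj L) := by
  obtain ⟨e⟩ := CurveCoh17.nonempty_stalk_equiv hL x
  let q := e.trans (LinearEquiv.funUnique (Fin 1) (P.presheaf.stalk x) (P.presheaf.stalk x))
  let g : ((CohMop.stFun x).obj L) ≃+ ModSite.stalkRing (CohMop.pt x) P.sheaf :=
    ((CohMop.modCmp x L).symm.trans q.toAddEquiv).trans (CohMop.ringCmp x).toAddEquiv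
  refine ⟨(LinearEquiv.symm { g with map_smul' := fun r a => ?_ })⟩
  obtain ⟨r, rfl⟩ := (CohMop.ringCmp x).surjective r
  obtain ⟨a, rfl⟩ := (CohMop.modCmp x L).surjective a
  have h1 : g (CohMop.ringCmp x r • CohMop.modCmp x L a) = g (CohMop.modCmp x L (r • a)) :=
    congrArg g (CohMop.modCmp_smul x L r a).symm
  refine h1.trans ?_
  show CohMop.ringCmp x (q ((CohMop.modCmp x L).symm (CohMop.modCmp x L (r • a)))) =
    CohMop.ringCmp x r • CohMop.ringCmp x (q ((CohMop.modCmp x L).symm (CohMop.modCmp x L a)))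
  rw [AddEquiv.symm_apply_apply, AddEquiv.symm_apply_apply, map_smul, smul_eq_mul, smul_eq_mul, map_mul]

/-- A reduced local ring at a generic point is a field. -/
theorem isField_stalk_generic [IsLocallyNoetherian X] {x : X}
    (hx : closure ({x} : Set ↥X) ∈ irreducibleComponents ↥X) [_root_.IsReduced (X.presheaf.stalk x)] :
    IsField (X.presheaf.stalk x) := by
  have h0 : ringKrullDim (X.presheaf.stalk x) = 0 := by
    rw [ringKrullDim_stalk_eq_coheight, ← WithBot.coe_zero, WithBot.coe_inj, Order.coheight_eq_zero]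
    intro y hy
    have h1 : closure ({x} : Set ↥X) ⊆ closure {y} := (specializes_iff_closure_subset.1 hy)
    have h2 : closure ({y} : Set ↥X) ⊆ closure {x} := hx.2 isIrreducible_singleton.closure h1
    exact specializes_iff_closure_subset.2 h2
  haveI : Ring.KrullDimLE 0 (X.presheaf.stalk x) := ringKrullDimZero_iff_ringKrullDim_eq_zero.2 h0
  exact Ring.KrullDimLE.isField_of_isReduced

theorem isCoh_extDual [IsLocallyNoetherian P] (ι : X ⟶ P) [IsClosedImmersion ι] {c : ℕ} {L : P.Modules}
    (hL : FlatMod.IsFinLocFreeOfRank 1 L) {ω : X.Modules}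
    (e : (Scheme.Modules.pushforward ι).obj ω ≅
      ((CohMop.ihom ((Scheme.Modules.pushforward ι).obj (Coh.structureModule X))).rightDerived c).obj L) :
    Coh.IsCoh ω := by
  haveI : IsLocallyNoetherian X := LocallyOfFiniteType.isLocallyNoetherian ι
  haveI := CohMop.isIso_counit_closedImmersion ι ω
  exact CohFound.isCoh_of_iso (asIso ((Scheme.Modules.pullbackPushforwardAdjunction ι).counit.app ω))
    (M1.isCoh_pullback ι (CohFound.isCoh_of_iso e.symm (CohMop.isCoh_extSheaf c _ _
      (CohFound.isCoh_push_closedImm ι (M1.isCoh_structureModule X))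
      (Snapper.isCoh_of_isInvertible ((M2.isInvertible_iff_isFinLocFreeOfRank_one L).2 hL)))))

variable [IsLocallyNoetherian P]

set_option maxHeartbeats 1000000 in
/-- The dualizing module has length one at the generic points where `X` is reduced. -/
theorem length_stalk_extDual (ι : X ⟶ P) [IsClosedImmersion ι] {c : ℕ} {L : P.Modules}
    (hL : FlatMod.IsFinLocFreeOfRank 1 L) {ω : X.Modules}
    (e : (Scheme.Modules.pushforward ι).obj ω ≅
      ((CohMop.ihom ((Scheme.Modules.pushforward ι).obj (Coh.structureModule X))).rightDerived c).obj L)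
    (x : X) [IsRegularLocalRing (P.presheaf.stalk (ι.base x))]
    (hc : ringKrullDim (P.presheaf.stalk (ι.base x)) = (c : WithBot ℕ∞)) (hf : IsField (X.presheaf.stalk x)) :
    Module.length (X.presheaf.stalk x) (ω.presheaf.stalk x) = 1 := by
  haveI : IsLocallyNoetherian X := LocallyOfFiniteType.isLocallyNoetherian ι
  let O := (Scheme.Modules.pushforward ι).obj (Coh.structureModule X)
  haveI : IsRegularLocalRing (ModSite.stalkRing (CohMop.pt (ι.base x)) P.sheaf) :=
    IsRegularLocalRing.of_ringEquiv (CohMop.ringCmp (ι.base x))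
  have hc' : ringKrullDim (ModSite.stalkRing (CohMop.pt (ι.base x)) P.sheaf) = (c : WithBot ℕ∞) :=
    (ringKrullDim_eq_of_ringEquiv (CohMop.ringCmp (ι.base x))).symm.trans hc
  have hO : Module.length (ModSite.stalkRing (CohMop.pt (ι.base x)) P.sheaf) ((CohMop.stFun (ι.base x)).obj O) = 1 := by
    letI := hf.toField
    rw [length_stFun]
    refine (Cyc26.length_stalk_push_closedImmersion ι (Coh.structureModule X) x).trans ?_
    obtain ⟨q⟩ := CurveCoh17.nonempty_stalk_equiv_structureModule x
    rw [(q.trans (LinearEquiv.funUnique (Fin 1) (X.presheaf.stalk x) (X.presheaf.stalk x))).length_eq,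
      Module.length_eq_finrank, Module.finrank_self, Nat.cast_one]
  obtain ⟨eL⟩ := nonempty_stFun_equiv hL (ι.base x)
  obtain ⟨es⟩ := CohMop.nonempty_stalk_extSh (ι.base x)
    (F := O) (CohFound.isCoh_push_closedImm ι (M1.isCoh_structureModule X)) L c
  rw [← Cyc26.length_stalk_push_closedImmersion ι ω x, ← length_stFun (ι.base x)]
  exact (((CohMop.stFun (ι.base x)).mapIso e ≪≫ es).toLinearEquiv.length_eq).trans
    (length_ext_of_length_one hc' hO eL)

/-- A coherent module with one-dimensional stalks at the generic points is a line bundle on a dense open. -/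
theorem exists_dense_open_rank_one [IsLocallyNoetherian X] {M : X.Modules} (hM : Coh.IsCoh M)
    (hf : ∀ x : X, closure ({x} : Set ↥X) ∈ irreducibleComponents ↥X → IsField (X.presheaf.stalk x))
    (h : ∀ x : X, closure ({x} : Set ↥X) ∈ irreducibleComponents ↥X →
      Module.length (X.presheaf.stalk x) (M.presheaf.stalk x) = 1) :
    ∃ U : X.Opens, Dense (U : Set ↥X) ∧ FlatMod.IsFinLocFreeOfRank 1 (M.restrict U.ι) := by
  let S : Set X.Opens := {V | Nonempty (M.restrict V.ι ≅ FlatMod.freeMod (V : Scheme.{u}) 1)}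
  refine ⟨sSup S, ?_, ?_⟩
  · intro y
    have hC := irreducibleComponent_mem_irreducibleComponents y
    have hg : closure ({hC.1.genericPoint} : Set ↥X) = irreducibleComponent y :=
      hC.1.closure_genericPoint isClosed_irreducibleComponent
    have hgc : closure ({hC.1.genericPoint} : Set ↥X) ∈ irreducibleComponents ↥X := by rw [hg]; exact hC
    letI := (hf _ hgc).toField
    haveI hfree : Module.Free (X.presheaf.stalk hC.1.genericPoint) (M.presheaf.stalk hC.1.genericPoint) :=
      Module.Free.of_divisionRing _ _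
    obtain ⟨V, n, hV, ⟨e⟩⟩ := M1.exists_freeMod_of_free_stalk (M1.isFP_of_isCoh hM) hC.1.genericPoint
    have hn : n = 1 := by
      have h1 := h _ hgc
      obtain ⟨q⟩ := SyntRank2.nonempty_stalk_equiv_of_restrict (n := n) (F := M) (U := V)
        (fun z => ⟨⊤, trivial, ⟨(Scheme.Modules.restrictFunctor (⊤ : (V : Scheme.{u}).Opens).ι).mapIso
          (e ≪≫ M1.freeModFrIso _ n) ≪≫ (M1.frRestrictIso _ _).symm ≪≫ (M1.freeModFrIso _ n).symm⟩⟩) hV
      rw [q.length_eq, Module.length_eq_finrank, Module.finrank_fin_fun] at h1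
      exact_mod_cast h1
    subst hn
    refine closure_mono (s := {hC.1.genericPoint})
      (Set.singleton_subset_iff.2 (Opens.mem_sSup.2 ⟨V, (show V ∈ S from ⟨e⟩), hV⟩)) ?_
    rw [hg]
    exact mem_irreducibleComponent
  · intro z
    obtain ⟨(V : X.Opens), hVS, hV⟩ := Opens.mem_sSup.1 z.2
    have hVS' : Nonempty (M.restrict V.ι ≅ FlatMod.freeMod (V : Scheme.{u}) 1) := hVS
    obtain ⟨e⟩ := hVS'
    have hr : Set.range V.ι ⊆ Set.range (sSup S).ι := by
      rw [Scheme.Opens.range_ι, Scheme.Opens.range_ι]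
      exact (le_sSup (show V ∈ S from hVS) : V ≤ sSup S)
    let j := IsOpenImmersion.lift (sSup S).ι V.ι hr
    have h2 : Set.range j.opensRange.ι ⊆ Set.range j := by rw [Scheme.Opens.range_ι]; rfl
    refine ⟨j.opensRange, ⟨⟨_, hV⟩, (sSup S).ι.isOpenEmbedding.injective ?_⟩,
      ⟨(M1.restrictLiftIso _ j j.opensRange.ι h2).symm ≪≫
        (Scheme.Modules.restrictFunctor (IsOpenImmersion.lift j j.opensRange.ι h2)).mapIso
          (M1.restrictLiftIso M (sSup S).ι V.ι hr ≪≫ e ≪≫ M1.freeModFrIso _ 1) ≪≫
        (M1.frRestrictIso (IsOpenImmersion.lift j j.opensRange.ι h2) _).symm ≪≫ (M1.freeModFrIso _ 1).symm⟩⟩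
    rw [← Scheme.Hom.comp_apply, IsOpenImmersion.lift_fac]
    rfl

end Groth.Agent.ProjDual12
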