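import Groth.Agent.Lib.ProjDual12.Closed
import Groth.Agent.Lib.Snapper.Vanish
import Groth.Agent.Lib.ModM1.LocFree

/-!
# Ext sheaves below the codimension
-/

set_option autoImplicit false
set_option linter.style.haveILetI false
set_option linter.unusedSectionVars false
set_option backward.isDefEq.respectTransparency false
set_option backward.isDefEq.respectTransparency.types false

universe v u

open CategoryTheory CategoryTheory.Limits AlgebraicGeometry TopologicalSpace Opposite Abelian

noncomputable section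

namespace Groth.Agent.ProjDual12

open Groth.Agent

theorem subsingleton_ext_free {R : Type u} [CommRing R] {M : ModuleCat.{u} R} (V : Type u) [AddCommGroup V]
    [Module R V] [Module.Free R V] [Module.Finite R V] {j : ℕ}
    (h : Subsingleton (Ext M (ModuleCat.of R R) j)) : Subsingleton (Ext M (ModuleCat.of R V) j) := by
  classical
  let b := Module.Free.chooseBasis R V
  let p : Module.Free.ChooseBasisIndex R V → (ModuleCat.of R V ⟶ ModuleCat.of R R) :=
    fun i => ModuleCat.ofHom (b.coord i)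
  let q : Module.Free.ChooseBasisIndex R V → (ModuleCat.of R R ⟶ ModuleCat.of R V) :=
    fun i => ModuleCat.ofHom (LinearMap.toSpanSingleton R V (b i))
  have hid : 𝟙 (ModuleCat.of R V) = ∑ i, p i ≫ q i := by
    refine ModuleCat.hom_ext (LinearMap.ext fun v => ?_)
    simp only [ModuleCat.hom_sum, LinearMap.sum_apply]
    exact (b.sum_repr v).symm
  refine subsingleton_of_forall_eq 0 fun z => ?_
  rw [← Ext.comp_mk₀_id z, hid, Ext.mk₀_sum, Ext.comp_sum]
  refine Finset.sum_eq_zero fun i _ => ?_
  rw [← Ext.mk₀_comp_mk₀, ← Ext.comp_assoc_of_second_deg_zero,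
    h.elim (z.comp (Ext.mk₀ (p i)) (add_zero j)) 0, Ext.zero_comp]

theorem isZero_extSh_finLocFree {P : Scheme.{u}} [IsLocallyNoetherian P] {F L E : P.Modules}
    (hF : Coh.IsCoh F) (hL : PicF.IsInvertible L) (hE : FlatMod.IsFinLocFree E) {j : ℕ}
    (h : IsZero (((CohMop.ihom F).rightDerived j).obj L)) :
    IsZero (((CohMop.ihom F).rightDerived j).obj E) := by
  refine CohMop.isZero_of_stFun fun x => ?_
  obtain ⟨e⟩ := CohMop.nonempty_stalk_extSh x hF E j
  obtain ⟨hfp, hfree⟩ := (M1.isFinLocFree_iff E).1 hE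
  haveI := hfree x
  haveI := M1.finite_stalk (M1.isFP_isQCoh hfp) (M1.isFP_isFT hfp) x
  rw [e.isZero_iff, ModuleCat.isZero_of_iff_subsingleton, subsingleton_ext_stalk_iff x F E j]
  exact subsingleton_ext_free (E.presheaf.stalk x) ((isZero_extSh_iff hF hL j).1 h x)

variable {k : Type u} [Field k] {N : ℕ} {X : Scheme.{u}} (ι : X ⟶ CohB1.ProjSpace N k) [IsClosedImmersion ι]

theorem negVan_push_of_dim {d : ℕ} (hd : topologicalKrullDim ↥X ≤ (d : WithBot ℕ∞)) {F : X.Modules}
    (hF : Coh.IsQCoh F) {q : ℕ} (hq : d < q) : ES11.NegVan ((Scheme.Modules.pushforward ι).obj F) q := by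
  letI : X.Over (Spec (CommRingCat.of k)) := ⟨ι ≫ CohB1.ProjSpace.toSpec N k⟩
  haveI := CMReg18.isProper_projSpace k (n := N)
  haveI : IsProper (X ↘ Spec (CommRingCat.of k)) :=
    inferInstanceAs (IsProper (ι ≫ CohB1.ProjSpace.toSpec N k))
  exact (negVan_push_iff ι hF q).2 ⟨0, fun m _ => Snapper.subsingleton_HH_of_dim k d hd
    (M2.isQCoh_tensor hF (M1.isQCoh_pullback ι (Twist.isQCoh_twistProjSpace N k (-m)))) hq⟩

theorem isZero_exd_of_lt_codim (r : ℕ)
    (hr : topologicalKrullDim ↥X + (r : WithBot ℕ∞) ≤ (N : WithBot ℕ∞)) {i : ℕ} (hi : i < r) :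
    IsZero (exd ((Scheme.Modules.pushforward ι).obj (Coh.structureModule X)) i) := by
  haveI : IsLocallyNoetherian (CohB1.ProjSpace N k) := CohFound.ProjNum.isLocallyNoetherian_projSpace N k
  haveI : IsLocallyNoetherian X := LocallyOfFiniteType.isLocallyNoetherian ι
  cases isEmpty_or_nonempty X with
  | inl h =>
    refine (isZero_extSh_iff (isCoh_push ι (M1.isCoh_structureModule X))
      (Twist.isInvertible_twistProjSpace N k _) i).2 fun x => ?_
    haveI : Subsingleton (((Scheme.Modules.pushforward ι).obj (Coh.structureModule X)).presheaf.stalk x) :=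
      subsingleton_of_forall_eq 0 fun a => M1.eq_zero_stalk_push ι _ (fun ⟨y, _⟩ => h.elim y) a
    exact subsingleton_of_forall_eq 0 fun z => by
      rw [← Ext.mk₀_id_comp z, show 𝟙 (ModuleCat.of _ _) = 0 from
        ModuleCat.hom_ext (LinearMap.ext fun a => Subsingleton.elim _ _), Ext.mk₀_zero, Ext.zero_comp]
  | inr h =>
    have hb : topologicalKrullDim ↥X ≠ ⊥ := by
      rw [topologicalKrullDim, Ne, Order.krullDim_eq_bot_iff, not_isEmpty_iff]
      obtain ⟨y⟩ := h
      exact ⟨⟨closure {y}, isIrreducible_singleton.closure, isClosed_closure⟩⟩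
    obtain ⟨c, hc⟩ := WithBot.ne_bot_iff_exists.1 hb
    rw [← hc] at hr
    have hr' : c + (r : ℕ∞) ≤ (N : ℕ∞) := WithBot.coe_le_coe.1 (by exact_mod_cast hr)
    obtain ⟨d, rfl⟩ : ∃ d : ℕ, c = d := ⟨c.toNat, (ENat.natCast_toNat fun hh => by
      rw [hh, top_add] at hr'
      exact (ENat.natCast_ne_top N) (top_le_iff.1 hr')).symm⟩
    have hr'' : d + r ≤ N := by exact_mod_cast hr'
    have h1 := (negVan_iff (k := k) i (isCoh_push ι (M1.isCoh_structureModule X)) (by omega)).1
    exact h1 (negVan_push_of_dim ι hc.ge (M1.isCoh_structureModule X).1 (by omega))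

end Groth.Agent.ProjDual12
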