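import Groth.Agent.Lib.ProjDual12.Serre
import Mathlib.Algebra.Homology.DerivedCategory.Ext.ExactSequences
import Mathlib.LinearAlgebra.Dual.Lemmas

/-!
# `Ext^j(F, O(-n-1))` is dual to `H^{n-j}(F)` for coherent `F` on projective space
-/

set_option autoImplicit false
set_option linter.style.haveILetI false
set_option backward.isDefEq.respectTransparency false
set_option backward.isDefEq.respectTransparency.types false

universe u

open CategoryTheory CategoryTheory.Limits AlgebraicGeometry TopologicalSpace Opposite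

noncomputable section

namespace Groth.Agent.ProjDual12

open Groth.Agent Groth.Agent.CurveCoh17

section general

variable {k : Type*} [Field k]

theorem nonempty_equiv_of_ker_eq {V A B : Type*} [AddCommGroup V] [Module k V] [AddCommGroup A] [Module k A]
    [AddCommGroup B] [Module k B] (f : V →ₗ[k] A) (g : V →ₗ[k] B) (hf : Function.Surjective f)
    (hg : Function.Surjective g) (h : LinearMap.ker f = LinearMap.ker g) : Nonempty (A ≃ₗ[k] B) :=
  ⟨(f.quotKerEquivOfSurjective hf).symm.trans
    ((Submodule.quotEquivOfEq _ _ h).trans (g.quotKerEquivOfSurjective hg))⟩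

/-- Functionals killing the image factor through an exact continuation. -/
theorem exists_dual_comp_of_exact {A B C : Type*} [AddCommGroup A] [Module k A] [AddCommGroup B] [Module k B]
    [AddCommGroup C] [Module k C] (d : A →ₗ[k] B) (f : B →ₗ[k] C) (h : Function.Exact d f)
    (ξ : Module.Dual k B) (hξ : ξ.comp d = 0) : ∃ η : Module.Dual k C, η.comp f = ξ := by
  have hmem : ξ ∈ LinearMap.range f.dualMap := by
    rw [LinearMap.range_dualMap_eq_dualAnnihilator_ker, Submodule.mem_dualAnnihilator]
    intro b hb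
    obtain ⟨a, rfl⟩ := (h b).1 hb
    exact LinearMap.congr_fun hξ a
  obtain ⟨η, hη⟩ := hmem
  exact ⟨η, hη⟩

end general

variable {k : Type u} [Field k] {n : ℕ}

local notation "P" => CohB1.ProjSpace n k

/-- A morphism to the dualizing twist extends along `ι` when its functional factors through `H^n(ι)`. -/
theorem exists_factor {K E : (CohB1.ProjSpace n k).Modules} (hK : Coh.IsCoh K) (hE : Coh.IsCoh E) (ι : K ⟶ E)
    (φ : K ⟶ om k n) (η : Module.Dual k (Coh.HH P E n)) (h : η.comp (hmap k ι n) = dualOf φ) :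
    ∃ ψ : E ⟶ om k n, ι ≫ ψ = φ := by
  obtain ⟨ψ, hψ⟩ := (rep hE).2 η
  exact ⟨ψ, (rep hK).1 (by rw [dualOf_comp, hψ, h])⟩

open Abelian in
theorem ext_duality [HasExt.{u} (CohB1.ProjSpace n k).Modules] :
    ∀ (j : ℕ) {F : (CohB1.ProjSpace n k).Modules}, Coh.IsCoh F →
      (∀ i, i + j = n → Nonempty (Ext F (om k n) j ≃ₗ[k] Module.Dual k (Coh.HH P F i))) ∧
        (n < j → Subsingleton (Ext F (om k n) j)) := by
  haveI := CMReg18.isProper_projSpace k (n := n)
  haveI : IsLocallyNoetherian P := CohFound.ProjNum.isLocallyNoetherian_projSpace n k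
  intro j
  induction j with
  | zero =>
    intro F hF
    refine ⟨fun i hi => ?_, fun h => absurd h (Nat.not_lt_zero n)⟩
    obtain rfl : i = n := by omega
    exact ⟨(Ext.linearEquiv₀ (R := k)).trans (LinearEquiv.ofBijective (dualOfₗ k i F) (rep hF))⟩
  | succ j ih =>
    intro F hF
    obtain ⟨b, m, π, -, hπ⟩ := exists_epi_sum hF 0
    haveI := hπ
    let S : ShortComplex (CohB1.ProjSpace n k).Modules := ShortComplex.mk (kernel.ι π) π (kernel.condition π)
    have hS : S.ShortExact := { exact := ShortComplex.exact_kernel π }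
    have hcE : Coh.IsCoh S.X₂ := isCoh_sum (k := k) (n := n) (m := m) b
    have hcK : Coh.IsCoh S.X₁ := CurveCoh17.isCoh_kernel hcE hF.1 π
    have hE : ∀ q, 0 < q → Subsingleton (Ext S.X₂ (om k n) q) := fun q hq =>
      subsingleton_ext_coprod b (subsingleton_ext_tneg (k := k) (n := n) m hq)
    have hEi : ∀ q, q ≠ n → Subsingleton (Coh.HH P S.X₂ q) := fun q hq =>
      subsingleton_HH_coprod k b (subsingleton_h_tneg m hq)
    let δ : Ext S.X₁ (om k n) j →ₗ[k] Ext F (om k n) (j + 1) :=
      Ext.bilinearCompOfLinear k S.X₃ S.X₁ (om k n) 1 j (j + 1) (add_comm 1 j) hS.extClass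
    have hsurj : Function.Surjective δ := fun x => by
      obtain ⟨a, ha⟩ := Ext.contravariant_sequence_exact₃ hS (om k n) (n₁ := j + 1) x
        ((hE (j + 1) (Nat.succ_pos j)).elim _ _) (add_comm 1 j)
      exact ⟨a, ha⟩
    have hdinj : ∀ q, q ≠ n → Function.Injective (hdelta k hS q) := fun q hq =>
      (injective_iff_map_eq_zero _).2 fun y hy => by
        obtain ⟨z, rfl⟩ := (exact_hmap_hdelta k hS q y).1 hy
        rw [(hEi q hq).elim z 0, map_zero]
    rcases Nat.eq_zero_or_pos j with rfl | hj
    · -- degree one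
      let f : (S.X₁ ⟶ om k n) →ₗ[k] Ext F (om k n) (0 + 1) :=
        δ.comp (Ext.linearEquiv₀ (R := k)).symm.toLinearMap
      have hf : Function.Surjective f := hsurj.comp (LinearEquiv.surjective _)
      have hf0 : ∀ φ, f φ = 0 ↔ ∃ ψ : S.X₂ ⟶ om k n, S.f ≫ ψ = φ := by
        intro φ
        constructor
        · intro h
          obtain ⟨x₂, hx₂⟩ := Ext.contravariant_sequence_exact₁ hS (om k n)
            ((Ext.linearEquiv₀ (R := k)).symm φ) (n₁ := 1) rfl h
          refine ⟨Ext.addEquiv₀ x₂, Ext.addEquiv₀.symm.injective ?_⟩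
          rw [Ext.linearEquiv₀_symm_apply] at hx₂
          rw [Ext.addEquiv₀_symm_apply, Ext.addEquiv₀_symm_apply, ← Ext.mk₀_comp_mk₀,
            Ext.mk₀_addEquiv₀_apply, hx₂]
        · rintro ⟨ψ, rfl⟩
          show hS.extClass.comp ((Ext.linearEquiv₀ (R := k)).symm (S.f ≫ ψ)) (add_comm 1 0) = 0
          rw [Ext.linearEquiv₀_symm_apply, ← Ext.mk₀_comp_mk₀,
            ShortComplex.ShortExact.extClass_comp_assoc]
      constructor
      · intro i hi
        obtain rfl : n = i + 1 := by omega
        let g : (S.X₁ ⟶ om k (i + 1)) →ₗ[k] Module.Dual k (Coh.HH _ S.X₃ i) :=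
          (hdelta k hS i).dualMap.comp (dualOfₗ k (i + 1) S.X₁)
        have hg : Function.Surjective g :=
          (LinearMap.dualMap_surjective_of_injective (hdinj i (Nat.ne_of_lt (Nat.lt_succ_self i)))).comp
            (rep hcK).2
        refine nonempty_equiv_of_ker_eq f g hf hg (SetLike.ext fun φ => ?_)
        rw [LinearMap.mem_ker, LinearMap.mem_ker, hf0]
        constructor
        · rintro ⟨ψ, rfl⟩
          show (hdelta k hS i).dualMap (dualOf (S.f ≫ ψ)) = 0
          rw [dualOf_comp]
          refine LinearMap.ext fun x => ?_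
          show dualOf ψ (hmap k S.f (i + 1) (hdelta k hS i x)) = 0
          rw [(exact_hdelta_hmap k hS i).apply_apply_eq_zero x, map_zero]
        · intro h
          obtain ⟨η, hη⟩ := exists_dual_comp_of_exact _ _ (exact_hdelta_hmap k hS i) (dualOf φ) h
          exact exists_factor hcK hcE S.f φ η hη
      · intro hn
        obtain rfl : n = 0 := by omega
        refine subsingleton_of_forall_eq 0 fun x => ?_
        obtain ⟨φ, rfl⟩ := hf x
        refine (hf0 φ).2 ?_
        obtain ⟨η, hη⟩ := exists_dual_comp_of_exact (0 : Coh.HH _ S.X₁ 0 →ₗ[k] Coh.HH _ S.X₁ 0)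
          (hmap k S.f 0) (fun y => ⟨fun hy => ⟨y, (hmap_f_injective k hS (hy.trans (map_zero _).symm)).symm⟩,
            fun ⟨z, hz⟩ => by rw [← hz, LinearMap.zero_apply, map_zero]⟩) (dualOf φ) (LinearMap.comp_zero _)
        exact exists_factor hcK hcE S.f φ η hη
    · have hinj : Function.Injective δ := (injective_iff_map_eq_zero _).2 fun a ha => by
        obtain ⟨x₂, rfl⟩ := Ext.contravariant_sequence_exact₁ hS (om k n) a (add_comm 1 j) ha
        rw [(hE j hj).elim x₂ 0, Ext.comp_zero]
      let e := LinearEquiv.ofBijective δ ⟨hinj, hsurj⟩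
      constructor
      · intro i hi
        obtain ⟨eK⟩ := (ih hcK).1 (i + 1) (by omega)
        have hd : Function.Bijective (hdelta k hS i) := ⟨hdinj i (by omega), fun y =>
          (exact_hdelta_hmap k hS i y).1 ((hEi (i + 1) (by omega)).elim _ _)⟩
        exact ⟨e.symm.trans (eK.trans (LinearEquiv.ofBijective _ hd).dualMap)⟩
      · intro hn
        suffices Subsingleton (Ext S.X₁ (om k n) j) from e.symm.toEquiv.subsingleton
        rcases (Nat.lt_succ_iff.1 hn).lt_or_eq with hlt | rfl
        · exact (ih hcK).2 hlt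
        · obtain ⟨eK⟩ := (ih hcK).1 0 (by omega)
          haveI : Subsingleton (Coh.HH (CohB1.ProjSpace n k) S.X₁ 0) := ⟨fun x y =>
            hmap_f_injective k hS ((hEi 0 (by omega)).elim _ _)⟩
          exact eK.toEquiv.subsingleton

/-- `Ext^i(F, O(-n-1))` vanishes exactly when `H^{n-i}(F)` does. -/
theorem ext_subsingleton_iff [HasExt.{u} (CohB1.ProjSpace n k).Modules] {F : (CohB1.ProjSpace n k).Modules}
    (hF : Coh.IsCoh F) {i : ℕ} (hi : i ≤ n) :
    Subsingleton (Abelian.Ext F (om k n) i) ↔ Subsingleton (Coh.HH P F (n - i)) := by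
  obtain ⟨e⟩ := (ext_duality i hF).1 (n - i) (by omega)
  haveI := finite_h k n hF (n - i)
  rw [e.toEquiv.subsingleton_congr]
  constructor
  · intro h
    refine subsingleton_of_forall_eq 0 fun x => ?_
    refine (Module.forall_dual_apply_eq_zero_iff k x).1 fun φ => ?_
    rw [h.elim φ 0, LinearMap.zero_apply]
  · intro h
    exact ⟨fun a b => LinearMap.ext fun x => by rw [h.elim x 0, map_zero, map_zero]⟩

end Groth.Agent.ProjDual12
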