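import Groth.Agent.Lib.ProjDual12.Serre
import Groth.Agent.Lib.EnriquesSeveri11.NegVan
import Groth.Agent.Lib.CohMop.TensorDerived
import Groth.Agent.Lib.CohMop.ExtCoh
import Groth.Agent.Lib.CMReg18.Hyperplane

/-!
# Vanishing of negative twists on projective space against the vanishing of local Ext sheaves

`H^{r-j}(F(-m)) = 0` for `m ≫ 0` iff `ℰxt^j(F, O(-r-1)) = 0`, for coherent `F` on `P^r` and `j ≤ r`.
-/

set_option autoImplicit false
set_option linter.style.haveILetI false
set_option linter.unusedSectionVars false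
set_option backward.isDefEq.respectTransparency false
set_option backward.isDefEq.respectTransparency.types false

universe u

open CategoryTheory CategoryTheory.Limits AlgebraicGeometry TopologicalSpace Opposite

noncomputable section

namespace Groth.Agent.ProjDual12

open Groth.Agent Groth.Agent.CurveCoh17

section general

variable {X : Scheme.{u}} (k : Type u) [Field k] [X.Over (Spec (CommRingCat.of k))]

/-- `ℋom(G ⊗ N, W) ≅ ℋom(G, W ⊗ N')` for `N' ⊗ N ≅ O`. -/
theorem nonempty_ihom_tensor_iso (G : X.Modules) {N N' W : X.Modules} (hN : PicF.IsInvertible N)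
    (hN' : PicF.IsInvertible N') (u : CohB1.tensorMod (CohB1.tensorMod W N') N ≅ W) :
    Nonempty ((CohMop.ihom (CohB1.tensorMod G N)).obj W ≅
      CohB1.tensorMod ((CohMop.ihom G).obj W) N') := by
  let e₁ : CohMop.ihom (CohB1.tensorMod G N) ≅ CohMop.ihom N ⋙ CohMop.ihom G :=
    (CohMop.ihomAdj (CohB1.tensorMod G N)).rightAdjointUniq
      (((CohMop.ihomAdj G).comp (CohMop.ihomAdj N)).ofNatIsoLeft (CohMop.tensorTenIso G N).symm)
  haveI := VB17.isEquivalence_tensorR hN
  let A := (M2.tensorR N).asEquivalence.toAdjunction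
  let η : CohMop.ihom N ≅ (M2.tensorR N).inv :=
    (CohMop.ihomAdj N).rightAdjointUniq (A.ofNatIsoLeft (ES11.tenRIso N).symm)
  let e₂ : (CohMop.ihom N).obj W ≅ CohB1.tensorMod W N' :=
    η.app _ ≪≫ (M2.tensorR N).inv.mapIso u.symm ≪≫
      ((M2.tensorR N).asEquivalence.unitIso.app (CohB1.tensorMod W N')).symm
  exact ⟨e₁.app W ≪≫ (CohMop.ihom G).mapIso e₂ ≪≫
    (CohMop.tenRIhomCommIso N' (M2.isFinLocFree_of_isInvertible hN') G).app W⟩

/-- Sequences of twists without higher cohomology add up in degree zero. -/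
theorem finrank_h0_add {S : ShortComplex X.Modules} (hS : S.ShortExact)
    [Module.Finite k (Coh.HH X S.X₁ 0)] [Module.Finite k (Coh.HH X S.X₂ 0)] [Module.Finite k (Coh.HH X S.X₃ 0)]
    (h : Subsingleton (Coh.HH X S.X₁ 1)) :
    Module.finrank k (Coh.HH X S.X₂ 0) =
      Module.finrank k (Coh.HH X S.X₁ 0) + Module.finrank k (Coh.HH X S.X₃ 0) := by
  have h1 := LinearMap.finrank_range_add_finrank_ker (hmap k S.g 0)
  have hs : LinearMap.range (hmap k S.g 0) = ⊤ := LinearMap.range_eq_top.2 fun y =>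
    (exact_hmap_hdelta k hS 0 y).1 (h.elim _ _)
  rw [hs, finrank_top, LinearMap.exact_iff.1 (exact_hmap_hmap k hS 0),
    LinearMap.finrank_range_of_inj (hmap_f_injective k hS)] at h1
  omega

/-- A globally generated module without sections is zero. -/
theorem isZero_of_gg {M : X.Modules} (hM : Curv2.IsGloballyGenerated M)
    (h : Subsingleton (Coh.HH X M 0)) : IsZero M := by
  obtain ⟨ι, p, hp⟩ := hM
  haveI : Subsingleton Γ(M, (⊤ : X.Opens)) := (hh0 M).symm.toEquiv.subsingleton
  have h0 : p = 0 := M1.free_hom_ext fun i => Subsingleton.elim _ _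
  rw [IsZero.iff_id_eq_zero]
  haveI : Epi (0 : (SheafOfModules.free ι : X.Modules) ⟶ M) := h0 ▸ hp
  rw [← cancel_epi (0 : (SheafOfModules.free ι : X.Modules) ⟶ M)]
  simp

end general

variable {k : Type u} [Field k] {r : ℕ}

local notation "P" => CohB1.ProjSpace r k
local notation "D" => CMReg18.projData k r

/-- `ℋom(G, O(-r-1))`. -/
abbrev dl (G : (CohB1.ProjSpace r k).Modules) : (CohB1.ProjSpace r k).Modules :=
  (CohMop.ihom G).obj (om k r)

/-- `ℰxt^j(G, O(-r-1))`. -/
abbrev exd (G : (CohB1.ProjSpace r k).Modules) (j : ℕ) : (CohB1.ProjSpace r k).Modules :=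
  ((CohMop.ihom G).rightDerived j).obj (om k r)

theorem isCoh_om : Coh.IsCoh (om k r) :=
  Snapper.isCoh_of_isInvertible (Twist.isInvertible_twistProjSpace r k _)

theorem isCoh_dl {G : (CohB1.ProjSpace r k).Modules} (hG : Coh.IsCoh G) : Coh.IsCoh (dl G) := by
  haveI : IsLocallyNoetherian P := CohFound.ProjNum.isLocallyNoetherian_projSpace r k
  exact CohMop.homCoh_of_isCoh hG _ isCoh_om

theorem isCoh_exd {G : (CohB1.ProjSpace r k).Modules} (hG : Coh.IsCoh G) (j : ℕ) : Coh.IsCoh (exd G j) := by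
  haveI : IsLocallyNoetherian P := CohFound.ProjNum.isLocallyNoetherian_projSpace r k
  exact CohMop.isCoh_extSheaf j G _ hG isCoh_om

theorem isCoh_ptw {G : (CohB1.ProjSpace r k).Modules} (hG : Coh.IsCoh G) (a : ℤ) :
    Coh.IsCoh (ES11.ptw G a) :=
  CurveCoh17.isCoh_tensor hG (Snapper.isCoh_of_isInvertible ((D).inv a))

/-- `h^r(G(-m)) = h^0(ℋom(G, O(-r-1))(m))`. -/
theorem finrank_top_twist {G : (CohB1.ProjSpace r k).Modules} (hG : Coh.IsCoh G) (m : ℤ) :
    Module.finrank k (Coh.HH P (ES11.ptw G (-m)) r) = Module.finrank k (Coh.HH P (ES11.ptw (dl G) m) 0) := by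
  rw [← finrank_h0_ihom (isCoh_ptw hG (-m))]
  obtain ⟨e⟩ := nonempty_ihom_tensor_iso G ((D).inv (-m)) ((D).inv m)
    ((D).twTwist (om k r) m (-m) ≪≫ (D).twIso (om k r) (add_neg_cancel m) ≪≫ (D).twZero (om k r))
  exact (hequiv k e 0).finrank_eq

/-- No sections in all large twists means zero. -/
theorem isZero_iff_h0_large {M : (CohB1.ProjSpace r k).Modules} (hM : Coh.IsCoh M) :
    IsZero M ↔ ∃ m₀ : ℤ, ∀ m : ℤ, m₀ ≤ m → Subsingleton (Coh.HH P (ES11.ptw M m) 0) := by
  constructor
  · intro h
    exact ⟨0, fun m _ => CMReg18.van_isZero k ((M2.tensorR ((D).O m)).map_isZero h) 0⟩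
  · rintro ⟨m₀, hm⟩
    obtain ⟨N, hN⟩ := (D).exists_gg_large (CMReg18.isAmple_twistOne k) hM
    have h := isZero_of_gg (hN (max N m₀) (le_max_left _ _)) (hm (max N m₀) (le_max_right _ _))
    have h' := (M2.tensorR ((D).O (-max N m₀))).map_isZero h
    exact h'.of_iso (((D).twTwist M (max N m₀) (-max N m₀) ≪≫
      (D).twIso M (add_neg_cancel _) ≪≫ (D).twZero M).symm)

theorem negVan_zero_iff {G : (CohB1.ProjSpace r k).Modules} (hG : Coh.IsCoh G) :
    ES11.NegVan G r ↔ IsZero (exd G 0) := by
  haveI := CMReg18.isProper_projSpace k (n := r)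
  rw [show IsZero (exd G 0) ↔ IsZero (dl G) from
    (((CohMop.ihom G).rightDerivedZeroIsoSelf).app (om k r)).isZero_iff, isZero_iff_h0_large (isCoh_dl hG)]
  refine exists_congr fun m₀ => forall₂_congr fun m _ => ?_
  haveI := finite_h k r (isCoh_ptw hG (-m)) r
  haveI := finite_h k r (isCoh_ptw (isCoh_dl hG) m) 0
  rw [← Module.finrank_zero_iff (R := k), ← Module.finrank_zero_iff (R := k), finrank_top_twist hG m]

theorem negVan_iff : ∀ (j : ℕ) {G : (CohB1.ProjSpace r k).Modules}, Coh.IsCoh G → j ≤ r →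
    (ES11.NegVan G (r - j) ↔ IsZero (exd G j)) := by
  haveI := CMReg18.isProper_projSpace k (n := r)
  haveI : IsLocallyNoetherian P := CohFound.ProjNum.isLocallyNoetherian_projSpace r k
  intro j
  induction j with
  | zero => exact fun hG _ => negVan_zero_iff hG
  | succ j ih =>
    intro G hG hjr
    obtain ⟨b, m₁, π, -, hπ⟩ := exists_epi_sum hG 0
    haveI := hπ
    let S : ShortComplex (CohB1.ProjSpace r k).Modules := ShortComplex.mk (kernel.ι π) π (kernel.condition π)
    have hS : S.ShortExact := { exact := ShortComplex.exact_kernel π }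
    have hflE : FlatMod.IsFinLocFree S.X₂ := isFinLocFree_sum (k := k) (n := r) b m₁
    have hcE : Coh.IsCoh S.X₂ := CohFound.isCoh_of_isFinLocFree hflE
    have hcK : Coh.IsCoh S.X₁ := CurveCoh17.isCoh_kernel hcE hG.1 π
    have hE : ∀ q, IsZero (exd S.X₂ (q + 1)) := fun q => CohMop.homExact_of_isFinLocFree hflE q _
    have hEN : ∀ i, i < r → ES11.NegVan S.X₂ i := fun i hi => ES11.negVan_of_isFinLocFree i hi hflE
    cases j with
    | zero =>
      -- degree one, in dimensions
      let f' := (CohMop.ihomNat S.f).app (om k r)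
      let C := cokernel f'
      have hC1 : C ≅ exd S.X₃ 1 := by
        haveI : Epi ((RDSeq.delta (CohMop.ihomNat S.g) (CohMop.ihomNat S.f) (CohMop.ihomNat_zero S)
            (CohMop.shortExact_ihom_of_injective hS) 0).app (om k r)) :=
          RDSeq.epi_delta_app _ _ _ _ 0 (om k r) (hE 0)
        haveI : IsIso ((CohMop.ihom S.X₁).toRightDerivedZero.app (om k r)) := inferInstance
        haveI : IsIso ((CohMop.ihom S.X₂).toRightDerivedZero.app (om k r)) := inferInstance
        exact cokernel.mapIso f' _ (asIso ((CohMop.ihom S.X₂).toRightDerivedZero.app (om k r)))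
            (asIso ((CohMop.ihom S.X₁).toRightDerivedZero.app (om k r)))
            (RDSeq.toRightDerivedZero_natural (CohMop.ihomNat S.f) (om k r)) ≪≫
          (colimit.isColimit _).coconePointUniqueUpToIso
            (RDSeq.exact_rightDerived_delta (CohMop.ihomNat S.g) (CohMop.ihomNat S.f) (CohMop.ihomNat_zero S)
              (CohMop.shortExact_ihom_of_injective hS) 0 (om k r)).gIsCokernel
      have hcC : Coh.IsCoh C := M1.isCoh_cokernel (isCoh_dl hcE).1 (isCoh_dl hcK) f'
      show ES11.NegVan G (r - 1) ↔ IsZero (exd S.X₃ 1)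
      rw [← hC1.isZero_iff, isZero_iff_h0_large hcC]
      -- the two short exact sequences
      obtain ⟨hl⟩ := CohMop.nonempty_isLimit_ihomSeq hS.exact (om k r)
      haveI : Mono ((CohMop.ihomNat S.g).app (om k r)) := mono_of_isLimit_fork hl
      let g' := (CohMop.ihomNat S.g).app (om k r)
      have w : g' ≫ Abelian.factorThruImage f' = 0 := by
        rw [← cancel_mono (Abelian.image.ι f'), Category.assoc, Abelian.image.fac, zero_comp]
        exact CohMop.ihomNat_zero S (om k r)
      let T1 : ShortComplex (CohB1.ProjSpace r k).Modules := ShortComplex.mk g' (Abelian.factorThruImage f') w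
      have hT1 : T1.ShortExact := ShortComplex.ShortExact.mk' (by
        let φ : T1 ⟶ ShortComplex.mk g' f' (CohMop.ihomNat_zero S (om k r)) :=
          { τ₁ := 𝟙 _, τ₂ := 𝟙 _, τ₃ := Abelian.image.ι f',
            comm₁₂ := by simp [T1]
            comm₂₃ := by simp [T1] }
        haveI : Epi φ.τ₁ := inferInstanceAs (Epi (𝟙 _))
        haveI : IsIso φ.τ₂ := inferInstanceAs (IsIso (𝟙 _))
        haveI : Mono φ.τ₃ := inferInstanceAs (Mono (Abelian.image.ι f'))
        exact (ShortComplex.exact_iff_of_epi_of_isIso_of_mono φ).2 (ShortComplex.exact_of_f_is_kernel _ hl))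
        inferInstance inferInstance
      let T2 : ShortComplex (CohB1.ProjSpace r k).Modules :=
        ShortComplex.mk (Abelian.image.ι f') (cokernel.π f') (kernel.condition _)
      have hT2 : T2.ShortExact :=
        ShortComplex.ShortExact.mk' (ShortComplex.exact_kernel _) inferInstance inferInstance
      have hcI : Coh.IsCoh (Abelian.image f') := M1.isCoh_kernel (isCoh_dl hcK) hcC.1 _
      have hA := CMReg18.isAmple_twistOne k (n := r)
      obtain ⟨a₁, ha₁⟩ := (D).exists_van_large k hA (isCoh_dl hG)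
      obtain ⟨a₂, ha₂⟩ := (D).exists_van_large k hA hcI
      obtain ⟨a₃, ha₃⟩ := hEN (r - 1) (by omega)
      let B := max a₁ (max a₂ a₃)
      have key : ∀ m, B ≤ m → (Subsingleton (Coh.HH P (ES11.ptw G (-m)) (r - 1)) ↔
          Subsingleton (Coh.HH P (ES11.ptw C m) 0)) := by
        intro m hm
        have hm₁ : a₁ ≤ m := (le_max_left _ _).trans hm
        have hm₂ : a₂ ≤ m := ((le_max_left _ _).trans (le_max_right _ _)).trans hm
        have hm₃ : a₃ ≤ m := ((le_max_right _ _).trans (le_max_right _ _)).trans hm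
        haveI f₁ := finite_h k r (isCoh_ptw (isCoh_dl hG) m) 0
        haveI f₂ := finite_h k r (isCoh_ptw (isCoh_dl hcE) m) 0
        haveI f₃ := finite_h k r (isCoh_ptw (isCoh_dl hcK) m) 0
        haveI f₄ := finite_h k r (isCoh_ptw hcI m) 0
        haveI f₅ := finite_h k r (isCoh_ptw hcC m) 0
        have h1 := @finrank_h0_add _ k _ _ _ ((D).shortExact_tw hT1 m) f₁ f₂ f₄ (ha₁ 1 m le_rfl hm₁)
        have h2 := @finrank_h0_add _ k _ _ _ ((D).shortExact_tw hT2 m) f₄ f₃ f₅ (ha₂ 1 m le_rfl hm₂)
        change Module.finrank k (Coh.HH P (ES11.ptw (dl S.X₂) m) 0) =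
          Module.finrank k (Coh.HH P (ES11.ptw (dl G) m) 0) +
            Module.finrank k (Coh.HH P (ES11.ptw (Abelian.image f') m) 0) at h1
        change Module.finrank k (Coh.HH P (ES11.ptw (dl S.X₁) m) 0) =
          Module.finrank k (Coh.HH P (ES11.ptw (Abelian.image f') m) 0) +
            Module.finrank k (Coh.HH P (ES11.ptw C m) 0) at h2
        obtain ⟨r', rfl⟩ : ∃ r', r = r' + 1 := ⟨r - 1, by omega⟩
        let S' := S.map (M2.tensorR ((CMReg18.projData k (r' + 1)).O (-m)))
        have hS' : S'.ShortExact := ES11.shortExact_twist hS (-m)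
        haveI := finite_h k (r' + 1) (isCoh_ptw hG (-m)) r'
        haveI := finite_h k (r' + 1) (isCoh_ptw hG (-m)) (r' + 1)
        haveI := finite_h k (r' + 1) (isCoh_ptw hcE (-m)) (r' + 1)
        haveI := finite_h k (r' + 1) (isCoh_ptw hcK (-m)) (r' + 1)
        haveI : Module.Finite k (Coh.HH _ S'.X₁ (r' + 1)) := finite_h k (r' + 1) (isCoh_ptw hcK (-m)) (r' + 1)
        haveI : Module.Finite k (Coh.HH _ S'.X₂ (r' + 1)) := finite_h k (r' + 1) (isCoh_ptw hcE (-m)) (r' + 1)
        haveI : Module.Finite k (Coh.HH _ S'.X₃ (r' + 1)) := finite_h k (r' + 1) (isCoh_ptw hG (-m)) (r' + 1)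
        haveI : Module.Finite k (Coh.HH _ S'.X₃ r') := finite_h k (r' + 1) (isCoh_ptw hG (-m)) r'
        have hEv : Subsingleton (Coh.HH _ S'.X₂ r') := ha₃ m hm₃
        have hB := finrank_four k (hdelta k hS' r') (hmap k S'.f (r' + 1)) (hmap k S'.g (r' + 1))
          ((injective_iff_map_eq_zero _).2 fun y hy => by
            obtain ⟨z, rfl⟩ := (exact_hmap_hdelta k hS' r' y).1 hy
            rw [hEv.elim z 0, map_zero])
          (exact_hdelta_hmap k hS' r') (exact_hmap_hmap k hS' (r' + 1)) fun y =>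
            (exact_hmap_hdelta k hS' (r' + 1) y).1 ((CMReg18.subsingleton_HH_of_lt k (isCoh_ptw hcK (-m)).1
              (Nat.lt_succ_self (r' + 1))).elim _ _)
        change Module.finrank k (Coh.HH _ (ES11.ptw G (-m)) r') +
          Module.finrank k (Coh.HH _ (ES11.ptw S.X₂ (-m)) (r' + 1)) =
          Module.finrank k (Coh.HH _ (ES11.ptw S.X₁ (-m)) (r' + 1)) +
            Module.finrank k (Coh.HH _ (ES11.ptw G (-m)) (r' + 1)) at hB
        rw [finrank_top_twist hcE, finrank_top_twist hcK, finrank_top_twist hG] at hB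
        rw [Nat.add_sub_cancel, ← Module.finrank_zero_iff (R := k), ← Module.finrank_zero_iff (R := k)]
        omega
      constructor
      · rintro ⟨m₀, h⟩
        exact ⟨max m₀ B, fun m hm => (key m ((le_max_right _ _).trans hm)).1 (h m ((le_max_left _ _).trans hm))⟩
      · rintro ⟨m₀, h⟩
        exact ⟨max m₀ B, fun m hm => (key m ((le_max_right _ _).trans hm)).2 (h m ((le_max_left _ _).trans hm))⟩
    | succ q =>
      obtain ⟨i, hi⟩ : ∃ i, r = i + (q + 2) := ⟨r - (q + 2), by omega⟩
      haveI := RDSeq.isIso_delta_app (CohMop.ihomNat S.g) (CohMop.ihomNat S.f) (CohMop.ihomNat_zero S)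
        (CohMop.shortExact_ihom_of_injective hS) (q + 1) (om k r) (hE q) (hE (q + 1))
      have he : IsZero (exd G (q + 1 + 1)) ↔ IsZero (exd S.X₁ (q + 1)) :=
        (asIso ((RDSeq.delta (CohMop.ihomNat S.g) (CohMop.ihomNat S.f) (CohMop.ihomNat_zero S)
          (CohMop.shortExact_ihom_of_injective hS) (q + 1)).app (om k r))).isZero_iff.symm
      rw [he, ← ih hcK (by omega), show r - (q + 1 + 1) = i by omega, show r - (q + 1) = i + 1 by omega]
      obtain ⟨a₁, ha₁⟩ := hEN i (by omega)
      obtain ⟨a₂, ha₂⟩ := hEN (i + 1) (by omega)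
      constructor
      · rintro ⟨m₀, h⟩
        refine ⟨max m₀ (max a₁ a₂), fun m hm => ?_⟩
        exact CMReg18.van₁ k (ES11.shortExact_twist hS (-m)) (h m ((le_max_left _ _).trans hm))
          (ha₂ m (((le_max_right _ _).trans (le_max_right _ _)).trans hm))
      · rintro ⟨m₀, h⟩
        refine ⟨max m₀ (max a₁ a₂), fun m hm => ?_⟩
        exact CMReg18.van₃ k (ES11.shortExact_twist hS (-m))
          (ha₁ m (((le_max_left _ _).trans (le_max_right _ _)).trans hm))
          (h m ((le_max_left _ _).trans hm))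

end Groth.Agent.ProjDual12
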